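import Cfsg.Agent.Lib.U62Cent47.Star
import Cfsg.Agent.Lib.U62Cent47.Six
import Cfsg.Agent.Lib.Fi22Recog95.Core
import Cfsg.Agent.Lib.Fi22Recog95.Mod.Sylow

/-!
An involution centraliser with `H0` of index at most two: how the whole centraliser acts on the codes,
and the centraliser in `J` of an involution.

Owner: helper7 (S3231).
-/

set_option autoImplicit false
set_option linter.unusedSectionVars false
set_option linter.style.haveILetI false
set_option maxRecDepth 20000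

open scoped commutatorElement

namespace Cfsg.Agent.Lib.U62Outer7

open Cfsg.Agent.Lib.U62Cent47
open Cfsg.Agent.Lib.Fi22Recog95.Mod (invW invW_pts mem_invW eqW_of_wS cFix cFix2 pairL_pts)

universe u

variable {G : Type u} [Group G] {z : G} (C : Ctx z)

/-- only members of `J` centralise `H0` modulo `J` -/
abbrev Cent : Prop := ∀ g ∈ Cen z, (∀ h ∈ C.H0, g * h * g⁻¹ * h⁻¹ ∈ C.J) → g ∈ C.J

/-- `g` induces `f` on the codes -/
def Acts (g : G) (f : Nat → Nat) : Prop := ∀ j ∈ C.J, C.π (g * j * g⁻¹) = f (C.π j)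

theorem z_conj {g : G} (hg : g ∈ Cen z) : g * z * g⁻¹ = z := mul_inv_eq_iff_eq_mul.2 (mem_cen.1 hg)

theorem π_eq_conj {g a b : G} (hg : g ∈ Cen z) (ha : a ∈ C.J) (hb : b ∈ C.J) (e : C.π a = C.π b) :
    C.π (g * a * g⁻¹) = C.π (g * b * g⁻¹) := by
  rcases (C.π_eq_iff ha hb).1 e with rfl | rfl
  · rfl
  · rw [show g * (a * z) * g⁻¹ = g * a * g⁻¹ * (g * z * g⁻¹) by group, z_conj hg,
      C.π_mul _ (C.J_conj g hg a ha) z C.z_mem, C.π_z, Nat.xor_zero]

theorem exists_map {g : G} (hg : g ∈ Cen z) : ∃ f, Acts C g f := by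
  classical
  refine ⟨fun n => if hn : n < 256 then C.π (g * (C.π_surj n hn).choose * g⁻¹) else 0, fun j hj => ?_⟩
  show _ = dite _ _ _
  rw [dif_pos (C.π_lt j hj)]
  obtain ⟨hc, e⟩ := (C.π_surj (C.π j) (C.π_lt j hj)).choose_spec
  exact π_eq_conj C hg hj hc e.symm

theorem acts_word {h : G} (hh : h ∈ C.H0) {w : List Nat} (hw : OkW w) (e : wS w = C.φ ⟨h, hh⟩) :
    Acts C h (wM C.m w) := fun _ hj => C.π_conj hh hw e hj

theorem exists_acts {h : G} (hh : h ∈ C.H0) :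
    ∃ w, OkW w ∧ wS w = C.φ ⟨h, hh⟩ ∧ Acts C h (wM C.m w) := by
  obtain ⟨w, hw, e⟩ := C.exists_word ⟨h, hh⟩
  exact ⟨w, hw, e, acts_word C hh hw e⟩

theorem exists_lift {w : List Nat} (hw : OkW w) :
    ∃ h, ∃ hh : h ∈ C.H0, C.φ ⟨h, hh⟩ = wS w ∧ Acts C h (wM C.m w) := by
  obtain ⟨h, hh, e⟩ := C.exists_lift (wS w)
  exact ⟨h, hh, e, acts_word C hh hw e.symm⟩

theorem acts_unique {g : G} {f f' : Nat → Nat} (h : Acts C g f) (h' : Acts C g f') :
    ∀ n < 256, f n = f' n := fun n hn => by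
  obtain ⟨j, hj, rfl⟩ := C.π_surj n hn
  rw [← h j hj, h' j hj]

theorem acts_congr {g : G} {f f' : Nat → Nat} (h : Acts C g f) (e : ∀ n < 256, f n = f' n) :
    Acts C g f' := fun j hj => (h j hj).trans (e _ (C.π_lt j hj))

theorem acts_J {j : G} (hj : j ∈ C.J) : Acts C j fun n => n := fun _ ha => C.π_conj_J hj ha

theorem acts_mul {g k : G} {f f' : Nat → Nat} (hk : k ∈ Cen z) (h : Acts C g f) (h' : Acts C k f') :
    Acts C (g * k) fun n => f (f' n) := fun j hj => by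
  show C.π (g * k * j * (g * k)⁻¹) = f (f' (C.π j))
  rw [← h' j hj, ← h _ (C.J_conj _ hk _ hj)]
  congr 1
  group

theorem acts_lt {g : G} {f : Nat → Nat} (hg : g ∈ Cen z) (h : Acts C g f) {n : Nat} (hn : n < 256) :
    f n < 256 := by
  obtain ⟨j, hj, rfl⟩ := C.π_surj n hn
  rw [← h j hj]; exact C.π_lt _ (C.J_conj _ hg _ hj)

theorem acts_xor {g : G} {f : Nat → Nat} (hg : g ∈ Cen z) (h : Acts C g f) {x y : Nat} (hx : x < 256)
    (hy : y < 256) : f (x ^^^ y) = f x ^^^ f y := by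
  obtain ⟨b, hb, rfl⟩ := C.π_surj x hx
  obtain ⟨c, hc, rfl⟩ := C.π_surj y hy
  rw [← h b hb, ← h c hc, ← C.π_mul _ (C.J_conj _ hg _ hb) _ (C.J_conj _ hg _ hc),
    ← C.π_mul b hb c hc, ← h _ (mul_mem hb hc)]
  congr 1
  group

theorem acts_zero {g : G} {f : Nat → Nat} (hg : g ∈ Cen z) (h : Acts C g f) : f 0 = 0 := by
  have h1 := acts_xor C hg h (x := 0) (y := 0) (by norm_num) (by norm_num)
  rwa [Nat.xor_self, Nat.xor_self] at h1

theorem acts_q {g : G} {f : Nat → Nat} (hg : g ∈ Cen z) (h : Acts C g f) {n : Nat} (hn : n < 256) :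
    qB C.m (f n) = qB C.m n := by
  obtain ⟨b, hb, rfl⟩ := C.π_surj n hn
  rw [← h b hb]
  have h1 := C.sq _ (C.J_conj _ hg _ hb)
  have h2 := C.sq b hb
  rw [show g * b * g⁻¹ * (g * b * g⁻¹) = g * (b * b) * g⁻¹ by group, h2] at h1
  cases e : qB C.m (C.π b) <;> cases e' : qB C.m (C.π (g * b * g⁻¹)) <;>
    simp [e, e', z_conj hg, C.z_ne_one, C.z_ne_one.symm] at h1 ⊢

/-- an element of the centraliser carries the action of a word to that of another -/
theorem map_word {g : G} {f : Nat → Nat} (hg : g ∈ Cen z) (ha : Acts C g f) {w : List Nat} (hw : OkW w) :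
    ∃ v, OkW v ∧ ∀ n < 256, f (wM C.m w n) = wM C.m v (f n) := by
  obtain ⟨h, hh, -, hah⟩ := exists_lift C hw
  obtain ⟨v, hv, -, hav⟩ := exists_acts C (C.H0_conj g hg h hh)
  refine ⟨v, hv, fun n hn => ?_⟩
  obtain ⟨j, hj, rfl⟩ := C.π_surj n hn
  rw [← hah j hj, ← ha _ (C.J_conj _ (C.H0_le hh) _ hj), ← ha j hj, ← hav _ (C.J_conj _ hg _ hj)]
  congr 1
  group

theorem wM_rev {w : List Nat} (hw : OkW w) {n : Nat} (hn : n < 256) :
    wM C.m w.reverse (wM C.m w n) = n ∧ wM C.m w (wM C.m w.reverse n) = n := by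
  obtain ⟨h, hh, e, ha⟩ := exists_lift C hw
  have hr := acts_word C (inv_mem hh) hw.reverse (w := w.reverse) (by
    rw [wS_reverse hw, ← e, ← map_inv]; rfl)
  have hone : ∀ g : G, g = 1 → Acts C g fun n => n := fun g e => e ▸ acts_J C (one_mem _)
  exact ⟨acts_unique C (acts_mul C (C.H0_le hh) hr ha) (hone _ (inv_mul_cancel h)) n hn,
    acts_unique C (acts_mul C (C.H0_le (inv_mem hh)) ha hr) (hone _ (mul_inv_cancel h)) n hn⟩

/-- an element of `H0` acting trivially lies in `J` -/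
theorem trivial_mem {h : G} (hh : h ∈ C.H0) (ha : Acts C h fun n => n) : h ∈ C.J := by
  let K : Subgroup SU4 :=
    { carrier := {A | ∀ k (hk : k ∈ C.H0), C.φ ⟨k, hk⟩ = A → Acts C k fun n => n}
      one_mem' := fun k hk e => acts_J C ((C.φ_ker _).1 e)
      mul_mem' := by
        intro A B hA hB k hk e
        obtain ⟨p, hp, ep⟩ := C.exists_lift A
        have hq : p⁻¹ * k ∈ C.H0 := mul_mem (inv_mem hp) hk
        have eq : C.φ ⟨p⁻¹ * k, hq⟩ = B := by
          show C.φ (⟨p, hp⟩⁻¹ * ⟨k, hk⟩) = B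
          rw [map_mul, map_inv, e, ep, inv_mul_cancel_left]
        have := acts_mul C (C.H0_le hq) (hA p hp ep) (hB _ hq eq)
        rwa [mul_inv_cancel_left] at this
      inv_mem' := by
        intro A hA k hk e j hj
        have hk' : C.φ ⟨k⁻¹, inv_mem hk⟩ = A := by
          show C.φ (⟨k, hk⟩⁻¹) = A
          rw [map_inv, e, inv_inv]
        have h1 := hA _ (inv_mem hk) hk' _ (C.J_conj k (C.H0_le hk) j hj)
        rw [show k⁻¹ * (k * j * k⁻¹) * k⁻¹⁻¹ = j by group] at h1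
        exact h1.symm }
  have hK : K.Normal := ⟨by
    intro A hA B k hk e j hj
    obtain ⟨p, hp, ep⟩ := C.exists_lift B
    have hq : p⁻¹ * k * p ∈ C.H0 := mul_mem (mul_mem (inv_mem hp) hk) hp
    have eq : C.φ ⟨p⁻¹ * k * p, hq⟩ = A := by
      show C.φ (⟨p, hp⟩⁻¹ * ⟨k, hk⟩ * ⟨p, hp⟩) = A
      rw [map_mul, map_mul, map_inv, e, ep]
      group
    have hj' : p⁻¹ * j * p ∈ C.J := by simpa using C.J_conj p⁻¹ (inv_mem (C.H0_le hp)) j hj
    have h1 := π_eq_conj C (C.H0_le hp) (C.J_conj _ (C.H0_le hq) _ hj') hj' (hA _ hq eq _ hj')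
    rw [show p * (p⁻¹ * k * p * (p⁻¹ * j * p) * (p⁻¹ * k * p)⁻¹) * p⁻¹ = k * j * k⁻¹ by group,
      show p * (p⁻¹ * j * p) * p⁻¹ = j by group] at h1
    exact h1⟩
  haveI := simple_SU4
  rcases hK.eq_bot_or_eq_top with h0 | h0
  · refine (C.φ_ker ⟨h, hh⟩).1 (Subgroup.mem_bot.1 (h0 ▸ (show C.φ ⟨h, hh⟩ ∈ K from ?_)))
    intro k hk e
    have hj : k * h⁻¹ ∈ C.J := (C.φ_ker (⟨k, hk⟩ * ⟨h, hh⟩⁻¹)).1 (by
      rw [map_mul, map_inv, e, mul_inv_cancel])
    have := acts_mul C (C.H0_le hh) (acts_J C hj) ha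
    rwa [inv_mul_cancel_right] at this
  · exfalso
    obtain ⟨k, hk, e, hak⟩ := exists_lift C (OkW.single (show 5 ∈ ptsL by decide +kernel))
    have h1 := acts_unique C hak ((h0.ge (Subgroup.mem_top (wS [5]))) k hk e)
    have hok : (List.range 3).all (fun m => (List.range 256).any fun n => !(wM m [5] n == n)) = true := by
      decide +kernel
    have h2 := List.all_eq_true.1 hok C.m (List.mem_range.2 C.hm)
    simp only [List.any_eq_true, List.mem_range, Bool.not_eq_true', beq_eq_false_iff_ne] at h2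
    obtain ⟨n, hn, hne⟩ := h2
    exact hne (h1 n hn)

/-- an element of the centraliser commuting with all words on the codes lies in `J` -/
theorem mem_J_of_comm (hcent : Cent C) {g : G} {f : Nat → Nat} (hg : g ∈ Cen z) (ha : Acts C g f)
    (hc : ∀ w, OkW w → ∀ n < 256, f (wM C.m w n) = wM C.m w (f n)) : g ∈ C.J := by
  refine hcent g hg fun h hh => ?_
  obtain ⟨w, hw, -, hah⟩ := exists_acts C hh
  refine trivial_mem C (mul_mem (C.H0_conj g hg h hh) (inv_mem hh)) fun j hj => ?_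
  set i := h⁻¹ * j * h with hi
  have hhc := C.H0_le hh
  have hiJ : i ∈ C.J := by simpa [hi] using C.J_conj h⁻¹ (inv_mem hhc) j hj
  set k := g⁻¹ * i * g with hk
  have hkJ : k ∈ C.J := by simpa [hk] using C.J_conj g⁻¹ (inv_mem hg) i hiJ
  have e1 : g * h * g⁻¹ * h⁻¹ * j * (g * h * g⁻¹ * h⁻¹)⁻¹ = g * (h * k * h⁻¹) * g⁻¹ := by
    rw [hk, hi]; group
  have e2 : C.π j = C.π (h * (g * k * g⁻¹) * h⁻¹) := by rw [hk, hi]; congr 1; group
  rw [e1, e2, ha _ (C.J_conj h hhc _ hkJ), hah _ hkJ, hah _ (C.J_conj g hg _ hkJ), ha _ hkJ,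
    hc w hw _ (C.π_lt k hkJ)]

/-- two elements outside `H0` multiply into it -/
theorem mul_mem_H0 [Finite G] {u v : G} (hu : u ∈ Cen z) (hv : v ∈ Cen z) (hu' : u ∉ C.H0) (hv' : v ∉ C.H0) :
    u * v ∈ C.H0 := by
  have h0 : (C.H0.subgroupOf (Cen z)).index ≠ 0 := Subgroup.index_ne_zero_of_finite
  have h1 : (C.H0.subgroupOf (Cen z)).index ≠ 1 := fun e =>
    hu' (Subgroup.relIndex_eq_one.1 e hu)
  have h2 : (C.H0.subgroupOf (Cen z)).index = 2 := by
    have := C.H0_index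
    rw [Subgroup.relIndex] at this
    omega
  have := (Subgroup.mul_mem_iff_of_index_two h2 (a := ⟨u, hu⟩) (b := ⟨v, hv⟩)).2
  exact this ⟨fun h => absurd h hu', fun h => absurd h hv'⟩

/-- if `a` in `J` squares to `z` and centralises `g z g⁻¹` then the partner lies in `H0` -/
theorem star_sqrt {g a : G} (hc : Commute a (g * z * g⁻¹)) (ha : a * a = z) : g⁻¹ * z * g ∈ C.H0 := by
  have h := C.H0_sq _ (cen_conj (g := g) hc.eq)
  rwa [show g⁻¹ * a * g * (g⁻¹ * a * g) = g⁻¹ * (a * a) * g by group, ha] at h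

/-- the same from the other side -/
theorem sqrt_star {g a : G} (hc : Commute a (g⁻¹ * z * g)) (ha : a * a = z) : g * z * g⁻¹ ∈ C.H0 := by
  have := star_sqrt C (g := g⁻¹) (by rwa [inv_inv]) ha
  rwa [inv_inv] at this

/-- a square root or an elementary subgroup -/
theorem sq_dichotomy (A : Subgroup G) (hA : A ≤ C.J) :
    (∃ a ∈ A, a * a = z) ∨ ∀ a ∈ A, a * a = 1 := by
  by_cases h : ∃ a ∈ A, a * a = z
  · exact Or.inl h
  refine Or.inr fun a ha => ?_
  have h1 := C.sq a (hA ha)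
  split at h1
  · exact absurd ⟨a, ha, h1⟩ h
  · exact h1

theorem commute_of_elem {A : Subgroup G} (hA : ∀ a ∈ A, a * a = 1) {a b : G} (ha : a ∈ A) (hb : b ∈ A) :
    Commute a b := by
  have i1 := inv_eq_of_mul_eq_one_right (hA a ha)
  have i2 := inv_eq_of_mul_eq_one_right (hA b hb)
  have i3 := inv_eq_of_mul_eq_one_right (hA _ (mul_mem ha hb))
  rw [mul_inv_rev, i1, i2] at i3
  exact i3.symm

open Cfsg.Agent.Lib.Extraspecial in
/-- an elementary subgroup of `J` through `z` has order at most 32 -/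
theorem elem_le [Finite G] {A : Subgroup G} (hA : A ≤ C.J) (hzA : z ∈ A) (h : ∀ a ∈ A, a * a = 1) :
    Nat.card A ≤ 32 := by
  set B := A.subgroupOf C.J with hB
  have h1 := sq_card_le_of_comm C.esData B (Subgroup.mem_subgroupOf.2 hzA) fun a ha b hb =>
    Subtype.ext (commute_of_elem h (Subgroup.mem_subgroupOf.1 ha) (Subgroup.mem_subgroupOf.1 hb)).eq
  rw [hB, Nat.card_congr (Subgroup.subgroupOfEquivOfLe hA).toEquiv, C.card_J] at h1
  nlinarith

section Inv

variable {x : G} {f : Nat → Nat} (hx : x ∈ Cen z) (hxx : x * x = 1) (hf : Acts C x f)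

include hx hxx hf

theorem inv_invol : ∀ n < 256, f (f n) = n :=
  acts_unique C (acts_mul C hx hf hf) (hxx ▸ acts_J C (one_mem _))

theorem moved_z {t : G} (ht : t ∈ C.J) (hfix : f (C.π t) = C.π t) :
    x * t * x⁻¹ = t ∨ x * t * x⁻¹ = t * z := by
  refine (C.π_eq_iff ht (C.J_conj x hx t ht)).1 ?_
  rw [hf t ht, hfix]

/-- the image is fixed -/
theorem img_fix {k : Nat} (hk : k < 256) : f (f k ^^^ k) = f k ^^^ k := by
  rw [acts_xor C hx hf (acts_lt C hx hf hk) hk, inv_invol C hx hxx hf k hk, Nat.xor_comm]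

/-- the commutators with `x` are inverted -/
theorem cm_inverted (q : G) : x * (q * x * q⁻¹ * x) * x⁻¹ = (q * x * q⁻¹ * x)⁻¹ := by
  have hxi : x⁻¹ = x := inv_eq_of_mul_eq_one_right hxx
  simp only [mul_inv_rev, hxi, inv_inv]
  calc x * (q * x * q⁻¹ * x) * x = x * q * x * q⁻¹ * (x * x) := by group
    _ = _ := by rw [hxx]; group

/-- a member of `J` in the fixed space commutes with the moves -/
theorem moves_comm {r a : G} (hr : r ∈ C.J) (hfix : f (C.π r) = C.π r) (ha : a ∈ C.J) :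
    Commute r (x * a * x⁻¹ * a⁻¹) := by
  have hxa := C.J_conj x hx a ha
  refine mul_inv_eq_iff_eq_mul.1 ?_
  have hc := z_conj hx
  have hz1 := C.comm_z hxa
  have e0 : r * (x * a * x⁻¹) * r⁻¹ = x * ((x⁻¹ * r * x) * a * (x⁻¹ * r * x)⁻¹) * x⁻¹ := by group
  have hxi : x⁻¹ = x := inv_eq_of_mul_eq_one_right hxx
  have e1 : x⁻¹ * r * x = r ∨ x⁻¹ * r * x = r * z := by
    rw [hxi]
    have h := moved_z C hx hxx hf hr hfix
    rwa [hxi] at h
  have e2 : (x⁻¹ * r * x) * a * (x⁻¹ * r * x)⁻¹ = r * a * r⁻¹ := by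
    rcases e1 with e | e <;> rw [e]
    rw [mul_assoc r z a, ← C.comm_z ha, mul_inv_rev]
    group
  rw [show r * (x * a * x⁻¹ * a⁻¹) * r⁻¹ = r * (x * a * x⁻¹) * r⁻¹ * (r * a * r⁻¹)⁻¹ by group, e0, e2,
    C.conj_eq hr ha]
  split
  · rw [show x * (z * a) * x⁻¹ * (z * a)⁻¹ = x * z * x⁻¹ * (x * a * x⁻¹ * a⁻¹) * z⁻¹ by group, hc,
      C.z_inv, show x * a * x⁻¹ * a⁻¹ = (x * a * x⁻¹) * a⁻¹ from rfl]
    have : Commute (x * a * x⁻¹ * a⁻¹) z := C.comm_z (mul_mem hxa (inv_mem ha))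
    rw [← this.eq, mul_assoc (x * a * x⁻¹ * a⁻¹) z z, C.z_mul_self, mul_one]
  · rfl

/-- the preimage of the fixed space -/
def fixT : Subgroup G where
  carrier := {t | t ∈ C.J ∧ f (C.π t) = C.π t}
  one_mem' := ⟨one_mem _, by rw [C.π_one]; exact acts_zero C hx hf⟩
  mul_mem' := fun {a b} ha hb => ⟨mul_mem ha.1 hb.1, by
    rw [C.π_mul a ha.1 b hb.1, acts_xor C hx hf (C.π_lt a ha.1) (C.π_lt b hb.1), ha.2, hb.2]⟩
  inv_mem' := fun {a} ha => ⟨inv_mem ha.1, by rw [C.π_inv ha.1]; exact ha.2⟩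

theorem card_fixT [Finite G] : Nat.card (fixT C hx hf) = 2 * cFix f := by
  show Nat.card (fixT C hx hf : Set G) = _
  rw [Nat.card_coe_set_eq, cFix, ← C.card_code fun n => f n == n]
  congr 1
  ext a
  simp [fixT]

theorem cent_le_fixT : C.J ⊓ Cen x ≤ fixT C hx hf := fun t ht => by
  obtain ⟨htJ, htx⟩ := Subgroup.mem_inf.1 ht
  refine ⟨htJ, ?_⟩
  rw [← hf t htJ, ← mem_cen.1 htx, mul_inv_cancel_right]

/-- the centraliser in `J` is at least half of it -/
theorem fixT_le_two [Finite G] : cFix f ≤ Nat.card ↥(C.J ⊓ Cen x) := by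
  have h1 := card_fixT C hx hxx hf
  have h2 : Nat.card (fixT C hx hf) ≤ 2 * Nat.card ↥(C.J ⊓ Cen x) := by
    refine Fi22Recog95.card_le_two_mul fun u hu hu' v hv hv' => ?_
    have hu2 := (moved_z C hx hxx hf hu.1 hu.2).resolve_left fun e =>
      hu' (Subgroup.mem_inf.2 ⟨hu.1, mem_cen.2 (mul_inv_eq_iff_eq_mul.1 e).symm⟩)
    have hv2 := (moved_z C hx hxx hf hv.1 hv.2).resolve_left fun e =>
      hv' (Subgroup.mem_inf.2 ⟨hv.1, mem_cen.2 (mul_inv_eq_iff_eq_mul.1 e).symm⟩)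
    refine Subgroup.mem_inf.2 ⟨mul_mem hu.1 hv.1, mem_cen.2 (mul_inv_eq_iff_eq_mul.1 ?_).symm⟩
    rw [show x * (u * v) * x⁻¹ = x * u * x⁻¹ * (x * v * x⁻¹) by group, hu2, hv2,
      C.comm_z hv.1, mul_assoc u z, ← mul_assoc z z, C.z_mul_self, one_mul]
  omega

omit C hx hxx hf in
theorem fix_product {f : Nat → Nat} (hlt : ∀ n < 256, f n < 256)
    (hadd : ∀ x y, x < 256 → y < 256 → f (x ^^^ y) = f x ^^^ f y) (hinv : ∀ n < 256, f (f n) = n) :
    256 ≤ cFix f * cFix f ∧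
      (cFix f * cFix f ≤ 256 → ∀ n < 256, f n = n → ∃ k < 256, f k ^^^ k = n) := by
  classical
  set A := Finset.range 256 with hA
  set P := A.filter fun n => f n = n with hP
  have cP : P.card = cFix f := by
    rw [cFix, ← List.toFinset_card_of_nodup (List.Nodup.filter _ List.nodup_range)]
    congr 1
    ext n
    simp [hP, hA]
  set R := A.image fun k => f k ^^^ k with hR
  have hsub : R ⊆ P := by
    intro n hn
    obtain ⟨k, hk, rfl⟩ := Finset.mem_image.1 hn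
    have hk' : k < 256 := Finset.mem_range.1 hk
    refine Finset.mem_filter.2 ⟨Finset.mem_range.2 (xor_lt8 (hlt k hk') hk'), ?_⟩
    rw [hadd _ _ (hlt k hk') hk', hinv k hk', Nat.xor_comm]
  have hbound : A.card ≤ P.card * R.card := by
    refine Finset.card_le_mul_card_image A _ fun n hn => ?_
    obtain ⟨k, hk, rfl⟩ := Finset.mem_image.1 hn
    have hk' : k < 256 := Finset.mem_range.1 hk
    refine Finset.card_le_card_of_injOn (fun i => i ^^^ k) (fun i hi => ?_) fun i _ j _ e => ?_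
    · obtain ⟨hi1, hi2⟩ := Finset.mem_filter.1 hi
      have hi' : i < 256 := Finset.mem_range.1 hi1
      refine Finset.mem_filter.2 ⟨Finset.mem_range.2 (xor_lt8 hi' hk'), ?_⟩
      rw [hadd i k hi' hk']
      refine Nat.xor_eq_zero_iff.1 ?_
      rw [xor_swap4, hi2, Nat.xor_self]
    · exact Nat.xor_left_inj.1 e
  have hRP := Finset.card_le_card hsub
  rw [Finset.card_range, cP] at hbound
  rw [cP] at hRP
  refine ⟨hbound.trans (Nat.mul_le_mul_left _ hRP), fun hle n hn e => ?_⟩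
  have hpos : 0 < cFix f := by
    rcases Nat.eq_zero_or_pos (cFix f) with h0 | h0
    · rw [h0] at hbound; simp at hbound
    · exact h0
  have heq : R = P := Finset.eq_of_subset_of_card_le hsub (by
    rw [cP]; exact Nat.le_of_mul_le_mul_left (hle.trans hbound) hpos)
  have hm : n ∈ R := heq ▸ Finset.mem_filter.2 ⟨Finset.mem_range.2 hn, e⟩
  obtain ⟨k, hk, e'⟩ := Finset.mem_image.1 hm
  exact ⟨k, Finset.mem_range.1 hk, e'⟩

theorem fix_sq : 256 ≤ cFix f * cFix f :=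
  (fix_product (fun _ hn => acts_lt C hx hf hn) (fun _ _ a b => acts_xor C hx hf a b)
    (inv_invol C hx hxx hf)).1

theorem fix_ge : 16 ≤ cFix f := by
  have := fix_sq C hx hxx hf
  by_contra h
  nlinarith

/-- a fixed code is a move when they are few -/
theorem exists_move (h16 : cFix f = 16) {t : G} (ht : t ∈ C.J) (hfix : f (C.π t) = C.π t) :
    ∃ q ∈ C.J, q * x * q⁻¹ * x = t ∨ q * x * q⁻¹ * x = t * z := by
  obtain ⟨k, hk, e⟩ := (fix_product (fun _ hn => acts_lt C hx hf hn) (fun _ _ a b => acts_xor C hx hf a b)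
    (inv_invol C hx hxx hf)).2 (by rw [h16]) _ (C.π_lt t ht) hfix
  obtain ⟨q, hq, rfl⟩ := C.π_surj k hk
  have hxi : x⁻¹ = x := inv_eq_of_mul_eq_one_right hxx
  have hc : q * x * q⁻¹ * x = q * (x * q⁻¹ * x⁻¹) := by rw [hxi]; group
  have hm : x * q⁻¹ * x⁻¹ ∈ C.J := C.J_conj x hx _ (inv_mem hq)
  refine ⟨q, hq, (C.π_eq_iff ht (hc ▸ mul_mem hq hm)).1 ?_⟩
  rw [hc, C.π_mul q hq _ hm, hf _ (inv_mem hq), C.π_inv hq, ← e, Nat.xor_comm]

/-- with few fixed codes the preimage of the fixed space is abelian -/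
theorem fixT_comm (h16 : cFix f = 16) {r t : G} (hr : r ∈ C.J) (hrf : f (C.π r) = C.π r) (ht : t ∈ C.J)
    (htf : f (C.π t) = C.π t) : Commute r t := by
  obtain ⟨q, hq, e⟩ := exists_move C hx hxx hf h16 ht htf
  have hxi : x⁻¹ = x := inv_eq_of_mul_eq_one_right hxx
  have h1 := moves_comm C hx hxx hf hr hrf (inv_mem hq)
  have h2 : Commute r (q * x * q⁻¹ * x) := by
    have e' : q * x * q⁻¹ * x = q * (x * q⁻¹ * x⁻¹ * q⁻¹⁻¹) * q⁻¹ := by rw [hxi]; group
    have hcm : Commute q (x * q⁻¹ * x⁻¹ * q⁻¹⁻¹) ∨ q * (x * q⁻¹ * x⁻¹ * q⁻¹⁻¹) * q⁻¹ =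
        z * (x * q⁻¹ * x⁻¹ * q⁻¹⁻¹) := by
      have := C.conj_eq hq (mul_mem (C.J_conj x hx _ (inv_mem hq)) (inv_mem (inv_mem hq)))
      split at this
      · exact Or.inr this
      · exact Or.inl (mul_inv_eq_iff_eq_mul.1 this)
    rw [e']
    rcases hcm with h | h
    · rw [h.eq, mul_inv_cancel_right]; exact h1
    · rw [h]; exact (show Commute r z from C.comm_z hr).mul_right h1
  have hz : Commute r z := C.comm_z hr
  rcases e with e | e
  · rwa [e] at h2
  · rw [e] at h2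
    have := h2.mul_right hz
    rwa [mul_assoc, C.z_mul_self, mul_one] at this

theorem move_inverted (h16 : cFix f = 16) {t : G} (ht : t ∈ C.J) (hfix : f (C.π t) = C.π t) :
    x * t * x⁻¹ = t⁻¹ := by
  obtain ⟨q, hq, e⟩ := exists_move C hx hxx hf h16 ht hfix
  have h := cm_inverted C hx hxx hf q
  rcases e with e | e <;> rw [e] at h
  · exact h
  · rw [show x * (t * z) * x⁻¹ = x * t * x⁻¹ * (x * z * x⁻¹) by group, z_conj hx, mul_inv_rev, C.z_inv,
      ← C.comm_z (inv_mem ht)] at h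
    exact mul_right_cancel h

end Inv

end Cfsg.Agent.Lib.U62Outer7
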