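import Mathlib

/-!
Two commuting conjugates of an involution, each acting on the other's 2-core like a symplectic type
outer involution of U4(2).

`J` is the core at `z` and `J'` the core at its conjugate `y`. Let `L = J ∩ C(y)` be elementary, let
the commutators of `J` with `y` meet every coset of `⟨z⟩` in `L` exactly once, and let no conjugate
of `z` other than `z` lie in `J`. Then an abelian subgroup of `J' ∩ C(z)` whose elements centralising
`L` lie in `J` has order at most four (`card_le`).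

Owner: helper7 (for helper47, S3231).
-/

set_option autoImplicit false

namespace Cfsg.Agent.Lib.U62Outer7

variable {G : Type*} [Group G]

/-- the data of a commuting pair -/
structure Pair (G : Type*) [Group G] where
  z : G
  y : G
  g : G
  J : Subgroup G
  hy : g * z * g⁻¹ = y
  hy2 : y * y = 1
  zy : Commute z y
  zJ : z ∈ J
  le : ∀ j ∈ J, Commute j z
  nrm : ∀ h : G, Commute h z → ∀ j ∈ J, h * j * h⁻¹ ∈ J
  comm : ∀ j ∈ J, ∀ k ∈ J, Commute j k ∨ j * k = k * j * z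
  noJ : ∀ h : G, h * z * h⁻¹ ∈ J → h * z * h⁻¹ = z
  /-- `J ∩ C(y)` is elementary -/
  sq : ∀ l ∈ J, Commute l y → l * l = 1
  /-- the commutators with `y` meet every coset of `⟨z⟩` in `J ∩ C(y)` -/
  surj : ∀ l ∈ J, Commute l y → ∃ q ∈ J, q * y * q⁻¹ * y = l ∨ q * y * q⁻¹ * y = l * z
  /-- `y z` is no `J`-conjugate of `y` -/
  yz : ∀ q ∈ J, q * y * q⁻¹ * y ≠ z

namespace Pair

variable (P : Pair G)

/-- `J ∩ C(y)` -/
def InL (l : G) : Prop := l ∈ P.J ∧ Commute l P.y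

/-- the core at `y` -/
def J' : Subgroup G := P.J.map (MulAut.conj P.g).toMonoidHom

/-- `J ∩ C(y) ∩ J'` -/
def InF (f : G) : Prop := P.InL f ∧ f ∈ P.J'

/-- the commutator with `y` -/
def c (q : G) : G := q * P.y * q⁻¹ * P.y

theorem mem_J' {x : G} : x ∈ P.J' ↔ P.g⁻¹ * x * P.g ∈ P.J := by
  rw [J', Subgroup.mem_map_equiv]; simp

theorem le' {x : G} (hx : x ∈ P.J') : Commute x P.y := by
  have h := ((P.le _ (P.mem_J'.1 hx)).map (MulAut.conj P.g))
  simp only [MulAut.conj_apply, P.hy] at h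
  simpa [mul_assoc] using h

theorem nrm' {h : G} (hh : Commute h P.y) {x : G} (hx : x ∈ P.J') : h * x * h⁻¹ ∈ P.J' := by
  rw [P.mem_J'] at hx ⊢
  have h1 : Commute (P.g⁻¹ * h * P.g) P.z := by
    have h2 := hh.map (MulAut.conj P.g⁻¹)
    rw [← P.hy] at h2
    simpa [mul_assoc] using h2
  have := P.nrm _ h1 _ hx
  simpa [mul_assoc] using this

theorem noJ' {h : G} (hh : h * P.y * h⁻¹ ∈ P.J') : h * P.y * h⁻¹ = P.y := by
  rw [P.mem_J', ← P.hy, show P.g⁻¹ * (h * (P.g * P.z * P.g⁻¹) * h⁻¹) * P.g =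
    P.g⁻¹ * h * P.g * P.z * (P.g⁻¹ * h * P.g)⁻¹ by group] at hh
  have e := P.noJ _ hh
  calc h * P.y * h⁻¹ = P.g * (P.g⁻¹ * h * P.g * P.z * (P.g⁻¹ * h * P.g)⁻¹) * P.g⁻¹ := by
        rw [← P.hy]; group
    _ = P.y := by rw [e, P.hy]

theorem c_mul (p q : G) : P.c (p * q) = p * P.c q * p⁻¹ * P.c p := by
  have h : P.y⁻¹ = P.y := inv_eq_of_mul_eq_one_right P.hy2
  simp only [c, mul_inv_rev]
  rw [show p * (q * P.y * q⁻¹ * P.y) * p⁻¹ * (p * P.y * p⁻¹ * P.y) =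
    p * q * P.y * q⁻¹ * (P.y * P.y) * p⁻¹ * P.y by group, P.hy2]
  group

theorem z_sq : P.z * P.z = 1 := P.sq _ P.zJ P.zy

theorem InL.inv_eq {P : Pair G} {l : G} (hl : P.InL l) : l⁻¹ = l :=
  inv_eq_of_mul_eq_one_right (P.sq l hl.1 hl.2)

theorem InL.mul {P : Pair G} {l m : G} (hl : P.InL l) (hm : P.InL m) : P.InL (l * m) :=
  ⟨mul_mem hl.1 hm.1, hl.2.mul_left hm.2⟩

theorem InL.comm {P : Pair G} {l m : G} (hl : P.InL l) (hm : P.InL m) : Commute l m := by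
  have := (hl.mul hm).inv_eq
  rw [mul_inv_rev, hl.inv_eq, hm.inv_eq] at this
  exact this.symm

theorem inL_z : P.InL P.z := ⟨P.zJ, P.zy⟩

theorem InF.mul {P : Pair G} {l m : G} (hl : P.InF l) (hm : P.InF m) : P.InF (l * m) :=
  ⟨hl.1.mul hm.1, mul_mem hl.2 hm.2⟩

/-- no commutator with `y` is a non-trivial member of `F` -/
theorem c_not_F {q f : G} (hf : P.InF f) (e : P.c q = f) : f = 1 := by
  have e1 : q * P.y * q⁻¹ = f * P.y := by
    rw [← e, c, mul_assoc (q * P.y * q⁻¹), P.hy2, mul_one]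
  have hy' : P.y ∈ P.J' := P.mem_J'.2 (by rw [← P.hy]; simpa [mul_assoc] using P.zJ)
  have e2 := P.noJ' (h := q) (e1 ▸ mul_mem hf.2 hy')
  rw [e1] at e2
  exact mul_eq_right.1 e2

/-- the commutators are unique in their cosets -/
theorem c_unique {p q l : G} (hl : P.InL l) (hp : p ∈ P.J) (hq : q ∈ P.J) (e₁ : P.c p = l)
    (e₂ : P.c q = l * P.z) : False := by
  refine P.yz (p⁻¹ * q) (mul_mem (inv_mem hp) hq) ?_
  have e := P.c_mul p (p⁻¹ * q)
  rw [mul_inv_cancel_left, e₁, e₂, (hl.comm P.inL_z).eq] at e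
  have h2 : p * P.c (p⁻¹ * q) * p⁻¹ = P.z := (mul_right_cancel e).symm
  have h3 : P.c (p⁻¹ * q) = p⁻¹ * P.z * p := by rw [← h2]; group
  show P.c (p⁻¹ * q) = P.z
  rw [h3, mul_assoc, ← (P.le p hp).eq, inv_mul_cancel_left]

theorem exists_q {f : G} (hf : P.InF f) (hf1 : f ≠ 1) : ∃ q ∈ P.J, P.c q = f * P.z := by
  obtain ⟨q, hq, e | e⟩ := P.surj f hf.1.1 hf.1.2
  · exact absurd (P.c_not_F hf e) hf1
  · exact ⟨q, hq, e⟩

theorem moved {q l : G} (hq : q ∈ P.J) (hl : P.InL l) (h : ¬ Commute q l) : q * l * q⁻¹ = l * P.z := by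
  have e := (P.comm q hq l hl.1).resolve_left h
  rw [e, mul_assoc (l * q), (P.le q⁻¹ (inv_mem hq)).symm.eq, ← mul_assoc (l * q), mul_inv_cancel_right]

theorem commute_prod {q l m : G} (hq : q ∈ P.J) (hl : P.InL l) (hm : P.InL m) (h1 : ¬ Commute q l)
    (h2 : ¬ Commute q m) : Commute q (l * m) := by
  have e : q * (l * m) * q⁻¹ = l * m := by
    rw [show q * (l * m) * q⁻¹ = q * l * q⁻¹ * (q * m * q⁻¹) by group, P.moved hq hl h1,
      P.moved hq hm h2, ← (hm.comm P.inL_z).eq.symm, mul_assoc l P.z, ← mul_assoc P.z, P.z_sq,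
      one_mul]
  exact mul_inv_eq_iff_eq_mul.1 e

/-- the element over `f` moves the other members of `F` -/
theorem noncomm_F {q f f' : G} (hq : q ∈ P.J) (hf : P.InF f) (hf' : P.InF f') (h1 : f' ≠ 1)
    (h2 : f' ≠ f) (e : P.c q = f * P.z) : ¬ Commute q f' := by
  intro hc
  obtain ⟨p, hp, ep⟩ := P.exists_q hf' h1
  have h := P.c_mul q p
  rw [ep, e, ((hc.mul_right (P.le q hq)).eq : q * (f' * P.z) = f' * P.z * q), mul_inv_cancel_right,
    mul_assoc f', ← mul_assoc P.z, ← (hf.1.comm P.inL_z).eq, mul_assoc f, P.z_sq, mul_one] at h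
  refine h2 ((eq_inv_of_mul_eq_one_left (P.c_not_F (hf'.mul hf) h)).trans hf.1.inv_eq)

/-- `F` has at most four elements -/
theorem card_F [Finite G] : {f | P.InF f}.ncard ≤ 4 := by
  by_cases h : ∃ a, P.InF a ∧ a ≠ 1
  swap
  · push Not at h
    refine (Set.ncard_le_ncard (t := ({1} : Set G)) (fun f hf => h f hf)).trans ?_
    simp
  obtain ⟨a, ha, ha1⟩ := h
  obtain ⟨q, hq, e⟩ := P.exists_q ha ha1
  by_cases hb : ∃ b, P.InF b ∧ b ≠ 1 ∧ b ≠ a
  swap
  · push Not at hb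
    refine (Set.ncard_le_ncard (t := ({1, a} : Set G)) fun f hf =>
      or_iff_not_imp_left.2 fun h1 => hb f hf h1).trans ?_
    exact (Set.ncard_insert_le _ _).trans (by simp)
  obtain ⟨b, hb, hb1, hba⟩ := hb
  refine (Set.ncard_le_ncard (t := ({1, a, b, b * a} : Set G)) fun f hf => ?_).trans ?_
  · by_contra hne
    simp only [Set.mem_insert_iff, Set.mem_singleton_iff, not_or] at hne
    have n1 : b * f ≠ 1 := fun e1 => hne.2.2.1 (by rw [eq_inv_of_mul_eq_one_right e1, hb.1.inv_eq])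
    have n2 : b * f ≠ a := fun e1 => hne.2.2.2 (by
      rw [← e1, ← mul_assoc, P.sq b hb.1.1 hb.1.2, one_mul])
    exact P.noncomm_F hq ha (hb.mul hf) n1 n2 e (P.commute_prod hq hb.1 hf.1
      (P.noncomm_F hq ha hb hb1 hba e) (P.noncomm_F hq ha hf hne.1 hne.2.1 e))
  · refine (Set.ncard_insert_le _ _).trans (Nat.add_le_add_right ?_ 1)
    refine (Set.ncard_insert_le _ _).trans (Nat.add_le_add_right ?_ 1)
    exact (Set.ncard_insert_le _ _).trans (by simp)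

/-- what `g` in `J' ∩ C(z)` does to `L` lies in `F` -/
theorem delta_mem {g l : G} (hg : g ∈ P.J') (hgz : Commute g P.z) (hl : P.InL l) :
    P.InF (g * l * g⁻¹ * l⁻¹) := by
  refine ⟨⟨mul_mem (P.nrm g hgz l hl.1) (inv_mem hl.1),
    (((P.le' hg).mul_left hl.2).mul_left (P.le' hg).inv_left).mul_left hl.2.inv_left⟩, ?_⟩
  rw [show g * l * g⁻¹ * l⁻¹ = g * (l * g⁻¹ * l⁻¹) by group]
  exact mul_mem hg (P.nrm' hl.2 (inv_mem hg))

/-- a change of `l` by `f` needs `l` moved by the element over `f` -/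
theorem noncomm_delta {g l q f : G} (hg : g ∈ P.J') (hgz : Commute g P.z) (hl : P.InL l)
    (hq : q ∈ P.J) (hf : P.InF f) (e : P.c q = f * P.z) (hd : g * l * g⁻¹ = f * l) :
    ¬ Commute q l := by
  suffices key : ∀ l, P.InL l → (∃ p ∈ P.J, P.c p = l) → g * l * g⁻¹ = f * l → ¬ Commute q l by
    obtain ⟨p, hp, ep | ep⟩ := P.surj l hl.1 hl.2
    · exact key l hl ⟨p, hp, ep⟩ hd
    · intro hc
      refine key (l * P.z) (hl.mul P.inL_z) ⟨p, hp, ep⟩ ?_ (hc.mul_right (P.le q hq))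
      rw [show g * (l * P.z) * g⁻¹ = g * l * g⁻¹ * (g * P.z * g⁻¹) by group, hd, hgz.eq,
        mul_inv_cancel_right, mul_assoc]
  rintro l hl ⟨p, hp, ep⟩ hd hc
  have h1 : P.c (g * p * g⁻¹) = f * l := by
    rw [← hd, ← ep, c, c]
    have e' : g * P.y * g⁻¹ = P.y := by rw [(P.le' hg).eq, mul_inv_cancel_right]
    conv_rhs => rw [show g * (p * P.y * p⁻¹ * P.y) * g⁻¹ =
      g * p * g⁻¹ * (g * P.y * g⁻¹) * (g * p * g⁻¹)⁻¹ * (g * P.y * g⁻¹) by group, e']
  have h2 := P.c_mul q p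
  rw [ep, hc.eq, mul_inv_cancel_right, e, ← mul_assoc, (hl.comm hf.1).eq] at h2
  exact P.c_unique (hf.1.mul hl) (P.nrm g hgz p hp) (mul_mem hq hp) h1 h2

/-- a subgroup of the abelian group `J' ∩ C(z)`, faithful on `L` modulo `J`, has order at most four -/
theorem card_le [Finite G] (E : Subgroup G) (hE : ∀ g ∈ E, g ∈ P.J' ∧ Commute g P.z)
    (hab : ∀ g ∈ P.J', Commute g P.z → ∀ h ∈ P.J', Commute h P.z → Commute g h)
    (faith : ∀ g ∈ E, (∀ l, P.InL l → Commute g l) → g ∈ P.J) : Nat.card E ≤ 4 := by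
  classical
  have hcenF : ∀ g ∈ E, (∀ l, P.InL l → Commute g l) → P.InF g := fun g hg hc =>
    ⟨⟨faith g hg hc, P.le' (hE g hg).1⟩, (hE g hg).1⟩
  by_cases hall : ∀ g ∈ E, ∀ l, P.InL l → Commute g l
  · calc Nat.card E = (E : Set G).ncard := (Nat.card_coe_set_eq _)
      _ ≤ {f | P.InF f}.ncard := Set.ncard_le_ncard fun g hg => hcenF g hg (hall g hg)
      _ ≤ 4 := P.card_F
  push Not at hall
  obtain ⟨g₀, hg₀, l₀, hl₀, hn₀⟩ := hall
  have hdelta : ∀ g ∈ E, ∀ l, P.InL l → P.InF (g * l * g⁻¹ * l⁻¹) := fun g hg l hl =>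
    P.delta_mem (hE g hg).1 (hE g hg).2 hl
  -- every non-trivial value empties `F`
  have only : ∀ g ∈ E, ∀ l, P.InL l → g * l * g⁻¹ * l⁻¹ ≠ 1 →
      ∀ f, P.InF f → f ≠ 1 → f = g * l * g⁻¹ * l⁻¹ := by
    intro g hg l hl hd1 f hf hf1
    by_contra hne
    obtain ⟨q, hq, e⟩ := P.exists_q (hdelta g hg l hl) hd1
    have h1 := P.noncomm_F hq (hdelta g hg l hl) hf hf1 hne e
    have h2 := P.noncomm_delta (hE g hg).1 (hE g hg).2 hl hq (hdelta g hg l hl) e (by group)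
    have hfz : Commute g f := hab g (hE g hg).1 (hE g hg).2 f hf.2 (P.le f hf.1.1)
    refine P.noncomm_delta (hE g hg).1 (hE g hg).2 (hl.mul hf.1) hq (hdelta g hg l hl) e ?_
      (P.commute_prod hq hl hf.1 h2 h1)
    rw [show g * (l * f) * g⁻¹ = g * l * g⁻¹ * (g * f * g⁻¹) by group, hfz.eq, mul_inv_cancel_right]
    group
  set d := g₀ * l₀ * g₀⁻¹ * l₀⁻¹ with hd
  have hd1 : d ≠ 1 := fun e => hn₀ (mul_inv_eq_iff_eq_mul.1 (mul_inv_eq_one.1 e))
  have hdF : P.InF d := hdelta g₀ hg₀ l₀ hl₀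
  have hF : ∀ f, P.InF f → f = 1 ∨ f = d := fun f hf =>
    or_iff_not_imp_left.2 (only g₀ hg₀ l₀ hl₀ hd1 f hf)
  obtain ⟨q, hq, e⟩ := P.exists_q hdF hd1
  -- all elements outside `F` act alike
  have act : ∀ g ∈ E, (∃ l, P.InL l ∧ ¬ Commute g l) → ∀ l, P.InL l →
      g * l * g⁻¹ = if Commute q l then l else d * l := by
    intro g hg ⟨l₁, hl₁, hn₁⟩ l hl
    have val : ∀ l, P.InL l → g * l * g⁻¹ = l ∨ g * l * g⁻¹ = d * l := fun l hl => by
      rcases hF _ (hdelta g hg l hl) with e | e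
      · exact Or.inl (mul_inv_eq_one.1 e)
      · exact Or.inr (mul_inv_eq_iff_eq_mul.1 e)
    have mv : ∀ l, P.InL l → g * l * g⁻¹ = d * l → ¬ Commute q l := fun l hl h =>
      P.noncomm_delta (hE g hg).1 (hE g hg).2 hl hq hdF e h
    have h₁ : g * l₁ * g⁻¹ = d * l₁ :=
      (val l₁ hl₁).resolve_left fun h => hn₁ (mul_inv_eq_iff_eq_mul.1 h)
    split
    next hc => exact (val l hl).resolve_right fun h => mv l hl h hc
    next hc =>
      refine (val l hl).resolve_left fun h => mv _ (hl₁.mul hl) ?_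
        (P.commute_prod hq hl₁ hl (mv l₁ hl₁ h₁) hc)
      rw [show g * (l₁ * l) * g⁻¹ = g * l₁ * g⁻¹ * (g * l * g⁻¹) by group, h₁, h, mul_assoc]
  have hcover : (E : Set G) ⊆ {1, d, g₀, g₀ * d} := by
    intro g hg
    by_cases hc : ∀ l, P.InL l → Commute g l
    · rcases hF g (hcenF g hg hc) with e | e <;> simp [e]
    push Not at hc
    have h : P.InF (g₀⁻¹ * g) := by
      refine hcenF _ (mul_mem (inv_mem hg₀) hg) fun l hl => mul_inv_eq_iff_eq_mul.1 ?_
      calc g₀⁻¹ * g * l * (g₀⁻¹ * g)⁻¹ = g₀⁻¹ * (g * l * g⁻¹) * g₀ := by group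
        _ = g₀⁻¹ * (g₀ * l * g₀⁻¹) * g₀ := by rw [act g hg hc l hl, act g₀ hg₀ ⟨l₀, hl₀, hn₀⟩ l hl]
        _ = l := by group
    rcases hF _ h with e | e
    · have := inv_mul_eq_one.1 e; simp [this.symm]
    · have : g = g₀ * d := by rw [← e]; group
      simp [this]
  calc Nat.card E = (E : Set G).ncard := (Nat.card_coe_set_eq _)
    _ ≤ ({1, d, g₀, g₀ * d} : Set G).ncard := Set.ncard_le_ncard hcover
    _ ≤ 4 := by
      refine (Set.ncard_insert_le _ _).trans (Nat.add_le_add_right ?_ 1)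
      refine (Set.ncard_insert_le _ _).trans (Nat.add_le_add_right ?_ 1)
      exact (Set.ncard_insert_le _ _).trans (by simp)

end Pair

end Cfsg.Agent.Lib.U62Outer7
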