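import Cfsg.Agent.Lib.U62Outer7.Act
import Cfsg.Agent.Lib.U62Outer7.Pair
import Cfsg.Agent.Lib.U62Cent47.Natural
import Cfsg.Agent.Lib.Fi22Recog95.Mod.NatOuter

/-!
The natural case with `H0` of index two: the commuting conjugates of `z` lie in `H0`.

An element outside `H0` is semilinear, so the centraliser in `J` of such an involution `x = g z g⁻¹` is
elementary, and so is the one of the partner `g⁻¹ z g`. Its image under `g` is then too large, either by
the pair lemma or because it fixes a hyperplane.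

Owner: helper7 (S3231).
-/

set_option autoImplicit false
set_option linter.style.haveILetI false
set_option maxRecDepth 20000

namespace Cfsg.Agent.Lib.U62Outer7

open Cfsg.Agent.Lib.U62Cent47 Cfsg.Agent.Lib.U62Recog47 Cfsg.Agent.Lib.G24
open Cfsg.Agent.Lib.Fi22Recog95.Mod (invW invW_pts mem_invW eqW_of_wS cFix cFix2 pairL_pts pairL)

universe u

variable {G : Type u} [Group G] {z : G} (C : Ctx z) (hm : C.m = 2) (hcent : Cent C)

theorem smN_word {v : List Nat} (hv : OkW v) {l : Nat} (hl : l < 4) (n : Nat) (hn : n < 256) :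
    wM 2 v (smN l n) = smN l (wM 2 v n) :=
  vec_inj (wM_lt _ _ (smN_lt _ _)) (smN_lt _ _) (by
    rw [vec_smN hl, wM_two, wM_two, ← wS_vec hv, vec_smN hl, Matrix.mulVec_smul, wS_vec hv])

theorem smN_xor {l : Nat} (hl : l < 4) (x y : Nat) : smN l (x ^^^ y) = smN l x ^^^ smN l y :=
  vec_inj (smN_lt _ _) (xor_lt8 (smN_lt _ _) (smN_lt _ _))
    (by rw [vec_smN hl, vec_xor, vec_xor, vec_smN hl, vec_smN hl, smul_add])

/-- sums `a + ω b` of codes fixed by a semilinear map are different -/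
theorem pair_inj {f : Nat → Nat} (hadd : ∀ x y, x < 256 → y < 256 → f (x ^^^ y) = f x ^^^ f y)
    (hsemi : ∀ n < 256, f (smN 2 n) = smN 3 (f n)) {a b c d : Nat} (ha : a < 256) (hb : b < 256)
    (hc : c < 256) (hd : d < 256) (fa : f a = a) (fb : f b = b) (fc : f c = c) (fd : f d = d)
    (e : a ^^^ smN 2 b = c ^^^ smN 2 d) : a = c ∧ b = d := by
  have e' := congrArg f e
  rw [hadd _ _ ha (smN_lt _ _), hadd _ _ hc (smN_lt _ _), hsemi _ hb, hsemi _ hd, fa, fb, fc, fd] at e'
  have v1 := congrArg vec e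
  have v2 := congrArg vec e'
  simp only [vec_xor, vec_smN (show (2 : Nat) < 4 by norm_num),
    vec_smN (show (3 : Nat) < 4 by norm_num)] at v1 v2
  have hk : ∀ a b c d : K4, a + dec 2 * b = c + dec 2 * d → a + dec 3 * b = c + dec 3 * d →
      a = c ∧ b = d := by decide
  have hh : ∀ i, vec a i = vec c i ∧ vec b i = vec d i := fun i => hk _ _ _ _ (congrFun v1 i) (congrFun v2 i)
  exact ⟨vec_inj ha hc (funext fun i => (hh i).1), vec_inj hb hd (funext fun i => (hh i).2)⟩

include hm hcent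

/-- an element outside `H0` is semilinear -/
theorem semilinear {x : G} {f : Nat → Nat} (hx : x ∈ Cen z) (hxx : x * x = 1) (hf : Acts C x f)
    (hx0 : x ∉ C.H0) : ∀ n < 256, f (smN 2 n) = smN 3 (f n) := by
  have hlt : ∀ n < 256, f n < 256 := fun n hn => acts_lt C hx hf hn
  have hadd : ∀ a b, a < 256 → b < 256 → f (a ^^^ b) = f a ^^^ f b := fun a b ha hb =>
    acts_xor C hx hf ha hb
  have hinv := inv_invol C hx hxx hf
  obtain ⟨l, hl, hK⟩ := Fi22Recog95.Mod.scalar_of_comm (K := fun n => f (smN 2 (f n)))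
    (fun n hn => hlt _ (smN_lt _ _))
    (fun a b ha hb => by
      show f _ = f _ ^^^ f _
      rw [hadd a b ha hb, smN_xor (by norm_num), hadd _ _ (smN_lt _ _) (smN_lt _ _)])
    (fun a ha n hn => by
      obtain ⟨v, hv, hfv⟩ := map_word C hx hf (OkW.single ha)
      rw [hm] at hfv
      show f (smN 2 (f (wM 2 [a] n))) = wM 2 [a] (f (smN 2 (f n)))
      rw [hfv n hn, ← smN_word hv (by norm_num) _ (hlt n hn)]
      have h1 := hfv (f (smN 2 (f n))) (hlt _ (smN_lt _ _))
      rw [hinv _ (smN_lt _ _)] at h1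
      rw [← h1, hinv _ (wM_lt _ _ (hlt _ (smN_lt _ _)))])
  have hconj : ∀ n < 256, f (smN 2 n) = smN l (f n) := fun n hn => by
    have h := hK _ (hlt n hn)
    rw [hinv n hn] at h
    exact h
  have hcases : ∀ l < 4, l = 3 ∨ l = 2 ∨ smN l 5 = 0 ∨ smN l 5 = 5 := by decide +kernel
  have hz : ∀ n < 256, (smN 2 n = 0 ∨ smN 2 n = n → n = 0) ∧ smN 0 n = 0 ∧ smN 1 n = n ∧
      smN 3 n = smN 2 (smN 2 n) := by decide +kernel
  rcases hcases l hl with e | e | e
  · subst e; exact hconj
  · subst e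
    exfalso
    have hsc : ∀ l < 4, ∀ n < 256, f (smN l n) = smN l (f n) := by
      intro l hl n hn
      have hl' : l = 0 ∨ l = 1 ∨ l = 2 ∨ l = 3 := by omega
      rcases hl' with rfl | rfl | rfl | rfl
      · rw [(hz n hn).2.1, acts_zero C hx hf, (hz _ (hlt n hn)).2.1]
      · rw [(hz n hn).2.2.1, (hz _ (hlt n hn)).2.2.1]
      · exact hconj n hn
      · rw [(hz n hn).2.2.2, hconj _ (smN_lt _ _), hconj n hn, (hz _ (hlt n hn)).2.2.2]
    obtain ⟨v, hv, hfv⟩ := Fi22Recog95.Mod.linear_word hlt hadd hsc hinv fun n hn => by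
      have := acts_q C hx hf hn
      rwa [hm] at this
    obtain ⟨k, hk, -, hak⟩ := exists_lift C (OkW.reverse hv)
    have hJ := mem_J_of_comm C hcent (mul_mem hx (C.H0_le hk))
      (acts_congr C (f' := fun n => n) (acts_mul C (C.H0_le hk) hf hak) fun n hn => by
        show f (wM C.m v.reverse n) = n
        rw [hfv _ (wM_lt _ _ hn), ← hm]
        exact (wM_rev C hv hn).2)
      fun w _ n _ => rfl
    exact hx0 (by simpa using mul_mem (C.J_le hJ) (inv_mem hk))
  · exfalso
    have h := hK 5 (by norm_num)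
    have h' := hinv _ (smN_lt 2 (f 5))
    rw [h] at h'
    have h5 := hinv 5 (by norm_num)
    have h0 : f 5 = 0 := by
      refine (hz _ (hlt 5 (by norm_num))).1 ?_
      rcases e with e | e <;> rw [e] at h'
      · rw [acts_zero C hx hf] at h'; exact Or.inl h'.symm
      · exact Or.inr h'.symm
    rw [h0, acts_zero C hx hf] at h5
    exact absurd h5 (by norm_num)

omit hcent in
theorem semilinear_fix {x : G} {f : Nat → Nat} (hx : x ∈ Cen z) (hxx : x * x = 1) (hf : Acts C x f)
    (hsemi : ∀ n < 256, f (smN 2 n) = smN 3 (f n)) : cFix f = 16 := by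
  classical
  have hge := fix_ge C hx hxx hf
  set P := ((List.range 256).filter fun n => f n == n).toFinset with hP
  have cP : P.card = cFix f := List.toFinset_card_of_nodup (List.Nodup.filter _ List.nodup_range)
  have mP : ∀ {n}, n ∈ P → n < 256 ∧ f n = n := fun {n} h => by simpa [hP] using h
  have h : (P ×ˢ P).card ≤ (Finset.range 256).card := by
    refine Finset.card_le_card_of_injOn (fun p => p.1 ^^^ smN 2 p.2) (fun p hp =>
      Finset.mem_range.2 (xor_lt8 (mP (Finset.mem_product.1 hp).1).1 (smN_lt _ _))) ?_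
    intro p hp q hq e
    obtain ⟨p1, f1⟩ := mP (Finset.mem_product.1 hp).1
    obtain ⟨p2, f2⟩ := mP (Finset.mem_product.1 hp).2
    obtain ⟨q1, g1⟩ := mP (Finset.mem_product.1 hq).1
    obtain ⟨q2, g2⟩ := mP (Finset.mem_product.1 hq).2
    obtain ⟨e1, e2⟩ := pair_inj (fun a b => acts_xor C hx hf) hsemi p1 p2 q1 q2 f1 f2 g1 g2 e
    exact Prod.ext e1 e2
  rw [Finset.card_product, Finset.card_range, cP] at h
  nlinarith

omit hm hcent in
/-- a word fixing enough codes fixed by a semilinear map fixes their span -/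
theorem span_fix {f : Nat → Nat} (hadd : ∀ a b, a < 256 → b < 256 → f (a ^^^ b) = f a ^^^ f b)
    (hsemi : ∀ n < 256, f (smN 2 n) = smN 3 (f n)) {R : Finset Nat} (hR : ∀ r ∈ R, r < 256 ∧ f r = r)
    {v w : List Nat} (hv : OkW v) (hw : OkW w)
    (hfv : ∀ r ∈ R, wM 2 v r = r) (hfw : ∀ r ∈ R, wM 2 w r = r) : R.card * R.card ≤ cFix2 (wM 2 v) (wM 2 w) := by
  classical
  set Q := ((List.range 256).filter fun n => wM 2 v n == n && wM 2 w n == n).toFinset with hQ
  have cQ : Q.card = cFix2 (wM 2 v) (wM 2 w) :=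
    List.toFinset_card_of_nodup (List.Nodup.filter _ List.nodup_range)
  rw [← cQ, ← Finset.card_product]
  refine Finset.card_le_card_of_injOn (fun p => p.1 ^^^ smN 2 p.2) (fun p hp => ?_) ?_
  · obtain ⟨h1, h2⟩ := Finset.mem_product.1 hp
    have hb := xor_lt8 (hR _ h1).1 (smN_lt 2 p.2)
    simp only [hQ, Finset.mem_coe, List.mem_toFinset, List.mem_filter, List.mem_range, Bool.and_eq_true,
      beq_iff_eq]
    refine ⟨hb, ?_, ?_⟩
    · rw [wM_xor _ _ (hR _ h1).1 (smN_lt _ _), smN_word hv (by norm_num) _ (hR _ h2).1, hfv _ h1, hfv _ h2]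
    · rw [wM_xor _ _ (hR _ h1).1 (smN_lt _ _), smN_word hw (by norm_num) _ (hR _ h2).1, hfw _ h1, hfw _ h2]
  · intro p hp q hq e
    obtain ⟨h1, h2⟩ := Finset.mem_product.1 hp
    obtain ⟨k1, k2⟩ := Finset.mem_product.1 hq
    obtain ⟨e1, e2⟩ := pair_inj hadd hsemi (hR _ h1).1 (hR _ h2).1 (hR _ k1).1 (hR _ k2).1 (hR _ h1).2
      (hR _ h2).2 (hR _ k1).2 (hR _ k2).2 e
    exact Prod.ext e1 e2

omit hm hcent in
theorem conj_commute {x k l : G} (hk : Commute k x) (hl : Commute l x) : Commute (k * l * k⁻¹ * l⁻¹) x :=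
  ((hk.mul_left hl).mul_left hk.inv_left).mul_left hl.inv_left

/-- the commuting conjugates of `z` lie in `H0` -/
theorem inner_natural [Finite G] (F : FactsProp) : C.Inner := by
  classical
  rintro _ ⟨g, rfl⟩ hc
  by_contra hx0
  set x := g * z * g⁻¹ with hxdef
  have hxC : x ∈ Cen z := mem_cen.2 hc.eq
  have hxx : x * x = 1 := (C.cls_sq ⟨g, rfl⟩).1
  have hnj := C.notJ F fun h => absurd h (by omega)
  have hxJ : x ∉ C.J := fun h => hx0 (C.J_le h)
  obtain ⟨f, hf⟩ := exists_map C hxC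
  have hsemi := semilinear C hm hcent hxC hxx hf hx0
  have h16 := semilinear_fix C hm hxC hxx hf hsemi
  set T := fixT C hxC hf with hT
  set L := C.J ⊓ Cen x with hL
  have hTabel : ∀ a ∈ T, ∀ b ∈ T, Commute a b := fun a ha b hb =>
    fixT_comm C hxC hxx hf h16 ha.1 ha.2 hb.1 hb.2
  have hLsq : ∀ l ∈ L, l * l = 1 := by
    intro l hl
    have hlT := cent_le_fixT C hxC hxx hf hl
    have h := move_inverted C hxC hxx hf h16 hlT.1 hlT.2
    rw [← mem_cen.1 (Subgroup.mem_inf.1 hl).2, mul_inv_cancel_right] at h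
    exact mul_eq_one_iff_eq_inv.2 h
  -- the partner
  set y := g⁻¹ * z * g with hydef
  have hyC : y ∈ Cen z := star_mem hxC
  have hyy : y * y = 1 := (C.cls_sq ⟨g⁻¹, by rw [inv_inv, hydef]⟩).1
  obtain ⟨f', hf'⟩ := exists_map C hyC
  set L' := C.J ⊓ Cen y with hL'
  have hL'sq : ∀ l ∈ L', l * l = 1 := by
    rcases sq_dichotomy C L' inf_le_left with ⟨a, ha, haz⟩ | h
    · exact absurd (sqrt_star C (mem_cen.1 (Subgroup.mem_inf.1 ha).2) haz) hx0
    · exact h
  have hL'16 : 16 ≤ Nat.card L' := (fix_ge C hyC hyy hf').trans (fixT_le_two C hyC hyy hf')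
  -- what `g` carries
  set M := L'.map (MulAut.conj g).toMonoidHom with hM
  have hMmem : ∀ k ∈ M, g⁻¹ * k * g ∈ L' ∧ Commute k z ∧ Commute k x ∧ k * k = 1 := by
    rintro _ ⟨l, hl, rfl⟩
    obtain ⟨hlJ, hly⟩ := Subgroup.mem_inf.1 hl
    refine ⟨by simpa [mul_assoc] using hl, ?_, ?_, ?_⟩
    · have h := (show Commute l y from mem_cen.1 hly).map (MulAut.conj g)
      simp only [MulAut.conj_apply, hydef, show g * (g⁻¹ * z * g) * g⁻¹ = z by group] at h
      exact h
    · have h := (show Commute l z from C.comm_z hlJ).map (MulAut.conj g)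
      simp only [MulAut.conj_apply] at h
      exact h
    · show g * l * g⁻¹ * (g * l * g⁻¹) = 1
      rw [show g * l * g⁻¹ * (g * l * g⁻¹) = g * (l * l) * g⁻¹ by group, hL'sq l hl, mul_one, mul_inv_cancel]
  set E := M ⊓ C.H0 with hE
  have hE8 : 8 ≤ Nat.card E := by
    have h1 : Nat.card M ≤ 2 * Nat.card E := by
      refine Fi22Recog95.card_le_two_mul fun u hu hu' v hv hv' => ?_
      refine Subgroup.mem_inf.2 ⟨mul_mem hu hv, mul_mem_H0 C (mem_cen.2 (hMmem u hu).2.1.eq)
        (mem_cen.2 (hMmem v hv).2.1.eq) ?_ ?_⟩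
      · exact fun h => hu' (Subgroup.mem_inf.2 ⟨hu, h⟩)
      · exact fun h => hv' (Subgroup.mem_inf.2 ⟨hv, h⟩)
    rw [hM, Subgroup.card_map_of_injective (MulAut.conj g).injective] at h1
    omega
  have back : ∀ k ∈ M, g⁻¹ * k * g ∈ C.J := fun k hk => (Subgroup.mem_inf.1 (hMmem k hk).1).1
  by_cases hsym : ∀ t ∈ T, t * t = 1
  · -- symplectic type
    have hTL : ∀ t ∈ T, Commute t x := fun t ht => by
      have h := move_inverted C hxC hxx hf h16 ht.1 ht.2
      rw [inv_eq_of_mul_eq_one_right (hsym t ht)] at h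
      exact (mul_inv_eq_iff_eq_mul.1 h).symm
    let P : Pair G :=
      { z := z, y := x, g := g, J := C.J, hy := rfl, hy2 := hxx, zy := hc.symm, zJ := C.z_mem
        le := fun j hj => C.comm_z hj
        nrm := fun h hh j hj => C.J_conj h (mem_cen.2 hh.eq) j hj
        comm := fun j hj k hk => by
          have h := C.conj_eq hj hk
          split at h
          · refine Or.inr ?_
            rw [mul_inv_eq_iff_eq_mul.1 h, mul_assoc, ← C.comm_z (mul_mem hk hj)]
          · exact Or.inl (mul_inv_eq_iff_eq_mul.1 h)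
        noJ := fun h hh => hnj _ ⟨h, rfl⟩ hh
        sq := fun l hl hlx => hLsq l (Subgroup.mem_inf.2 ⟨hl, mem_cen.2 hlx.eq⟩)
        surj := fun l hl hlx => by
          have hlT := cent_le_fixT C hxC hxx hf (Subgroup.mem_inf.2 ⟨hl, mem_cen.2 hlx.eq⟩)
          exact exists_move C hxC hxx hf h16 hl hlT.2
        yz := fun q hq e => by
          have hfix : f (C.π q) = C.π q := by
            have hc' : q * x * q⁻¹ * x = q * (x * q⁻¹ * x⁻¹) := by
              rw [inv_eq_of_mul_eq_one_right hxx]; group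
            have h := C.π_mul q hq _ (C.J_conj x hxC _ (inv_mem hq))
            rw [← hc', e, C.π_z, hf _ (inv_mem hq), C.π_inv hq] at h
            exact (Nat.xor_eq_zero_iff.1 h.symm).symm
          rw [(hTL q ⟨hq, hfix⟩).eq, mul_inv_cancel_right, hxx] at e
          exact C.z_ne_one e.symm }
    have h4 := P.card_le E (fun k hk => ⟨P.mem_J'.2 (back k hk.1), (hMmem k hk.1).2.1⟩)
      (fun k hk hkz l hl hlz => ?_) (fun k hk hkL => ?_)
    · omega
    · have hk' : g⁻¹ * k * g ∈ L' := Subgroup.mem_inf.2 ⟨P.mem_J'.1 hk, mem_cen.2 (by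
        have h := hkz.map (MulAut.conj g⁻¹)
        simp only [MulAut.conj_apply, inv_inv] at h
        exact h.eq)⟩
      have hl' : g⁻¹ * l * g ∈ L' := Subgroup.mem_inf.2 ⟨P.mem_J'.1 hl, mem_cen.2 (by
        have h := hlz.map (MulAut.conj g⁻¹)
        simp only [MulAut.conj_apply, inv_inv] at h
        exact h.eq)⟩
      have h := (commute_of_elem hL'sq hk' hl').map (MulAut.conj g)
      simpa [mul_assoc] using h
    · obtain ⟨v, hv, -, hav⟩ := exists_acts C hk.2
      rw [hm] at hav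
      set R := ((List.range 256).filter fun n => f n == n).toFinset with hR
      have mR : ∀ r ∈ R, r < 256 ∧ f r = r := fun r hr => by simpa [hR] using hr
      have hfvR : ∀ r ∈ R, wM 2 v r = r := fun r hr => by
        obtain ⟨t, ht, rfl⟩ := C.π_surj r (mR r hr).1
        rw [← hav t ht, (hkL t ⟨ht, hTL t ⟨ht, (mR _ hr).2⟩⟩).eq, mul_inv_cancel_right]
      have hall := span_fix (fun a b => acts_xor C hxC hf) hsemi mR hv OkW.nil hfvR fun r _ => rfl
      rw [List.toFinset_card_of_nodup (List.Nodup.filter _ List.nodup_range), ← cFix, h16] at hall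
      refine trivial_mem C hk.2 (acts_congr C (hm.symm ▸ hav) fun n hn => ?_)
      have hlen : ((List.range 256).filter fun n => wM 2 v n == n && wM 2 [] n == n).length =
          (List.range 256).length := le_antisymm (List.length_filter_le _ _) (by
            rw [List.length_range]; exact hall)
      have := List.length_filter_eq_length_iff.1 hlen n (List.mem_range.2 hn)
      simp only [Bool.and_eq_true, beq_iff_eq] at this
      rw [hm]; exact this.1
  · -- orthonormal type
    push Not at hsym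
    obtain ⟨t₀, ht₀, ht₀'⟩ := hsym
    have ht₀z : t₀ * t₀ = z := by
      have h := C.sq t₀ ht₀.1
      split at h
      · exact h
      · exact absurd h ht₀'
    have hxi : x⁻¹ = x := inv_eq_of_mul_eq_one_right hxx
    have hcz : t₀ * x * t₀⁻¹ * x = z := by
      have h := move_inverted C hxC hxx hf h16 (inv_mem ht₀.1) (T.inv_mem ht₀).2
      rw [hxi, inv_inv] at h
      rw [show t₀ * x * t₀⁻¹ * x = t₀ * (x * t₀⁻¹ * x) by group, h, ht₀z]
    -- every member of `T` is a commutator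
    have hall : ∀ t ∈ T, ∃ q ∈ C.J, q * x * q⁻¹ * x = t := by
      intro t ht
      obtain ⟨q, hq, e | e⟩ := exists_move C hxC hxx hf h16 ht.1 ht.2
      · exact ⟨q, hq, e⟩
      · refine ⟨t₀ * q, mul_mem ht₀.1 hq, ?_⟩
        have e' : t₀ * q * x * (t₀ * q)⁻¹ * x = t₀ * (q * x * q⁻¹ * x) * t₀⁻¹ * (t₀ * x * t₀⁻¹ * x) := by
          rw [show t₀ * (q * x * q⁻¹ * x) * t₀⁻¹ * (t₀ * x * t₀⁻¹ * x) =
            t₀ * q * x * q⁻¹ * (x * x) * t₀⁻¹ * x by group, hxx]
          group
        rw [e', e, hcz, ((hTabel t₀ ht₀ t ht).mul_right (C.comm_z ht₀.1)).eq, mul_inv_cancel_right,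
          mul_assoc, C.z_mul_self, mul_one]
    -- nothing of `J` is carried to commute with both
    have hF : ∀ k ∈ M, k ∈ C.J → k = 1 := by
      intro k hk hkJ
      obtain ⟨q, hq, e⟩ := hall k (cent_le_fixT C hxC hxx hf
        (Subgroup.mem_inf.2 ⟨hkJ, mem_cen.2 (hMmem k hk).2.2.1.eq⟩))
      have e2 : q * x * q⁻¹ = k * x := by
        rw [← e, mul_assoc (q * x * q⁻¹), hxx, mul_one]
      have hJ : g⁻¹ * (q * x * q⁻¹) * g ∈ C.J := by
        rw [e2, show g⁻¹ * (k * x) * g = g⁻¹ * k * g * (g⁻¹ * x * g) by group,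
          show g⁻¹ * x * g = z by rw [hxdef]; group]
        exact mul_mem (back k hk) C.z_mem
      have h := hnj _ (by simpa using cls_conj (cls_conj ⟨g, rfl⟩ q) g⁻¹) hJ
      have : q * x * q⁻¹ = x := by
        rw [show q * x * q⁻¹ = g * (g⁻¹ * (q * x * q⁻¹) * g) * g⁻¹ by group, h]
      rw [e2] at this
      exact mul_eq_right.1 this
    have hcomm : ∀ k ∈ E, ∀ l ∈ L, Commute k l := by
      intro k hk l hl
      obtain ⟨hlJ, hlx⟩ := Subgroup.mem_inf.1 hl
      have hlx' : Commute l x := mem_cen.1 hlx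
      obtain ⟨hkL, hkz, hkx, -⟩ := hMmem k hk.1
      set d := k * l * k⁻¹ * l⁻¹ with hd
      have hdJ : d ∈ C.J := mul_mem (C.J_conj k (mem_cen.2 hkz.eq) l hlJ) (inv_mem hlJ)
      have hl0 : g⁻¹ * l * g ∈ Cen z := cen_conj hlx'.eq
      have hdM : d ∈ M := by
        refine ⟨g⁻¹ * d * g, Subgroup.mem_inf.2 ⟨?_, ?_⟩, by simp [mul_assoc]⟩
        · rw [hd, show g⁻¹ * (k * l * k⁻¹ * l⁻¹) * g =
            g⁻¹ * k * g * (g⁻¹ * l * g * (g⁻¹ * k * g)⁻¹ * (g⁻¹ * l * g)⁻¹) by group]
          exact mul_mem (back k hk.1) (C.J_conj _ hl0 _ (inv_mem (back k hk.1)))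
        · refine mem_cen.2 ?_
          have h := (show Commute d z from C.comm_z hdJ).map (MulAut.conj g⁻¹)
          simp only [MulAut.conj_apply, inv_inv] at h
          exact h.eq
      exact mul_inv_eq_iff_eq_mul.1 (mul_inv_eq_one.1 (hF d hdM hdJ))
    set R := ((List.range 256).filter fun n => decide (∃ l ∈ L, C.π l = n)).toFinset with hR
    have mR : ∀ r, r ∈ R ↔ r < 256 ∧ ∃ l ∈ L, C.π l = r := fun r => by simp [hR]
    have hRfix : ∀ r ∈ R, r < 256 ∧ f r = r := fun r hr => by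
      obtain ⟨h1, l, hl, rfl⟩ := (mR r).1 hr
      exact ⟨h1, (cent_le_fixT C hxC hxx hf hl).2⟩
    have hR8 : 8 ≤ R.card := by
      have hL16 : 16 ≤ Nat.card L := h16 ▸ fixT_le_two C hxC hxx hf
      have hsub : (L : Set G) ⊆ {a | a ∈ C.J ∧ decide (∃ l ∈ L, C.π l = C.π a) = true} := fun a ha =>
        ⟨(Subgroup.mem_inf.1 ha).1, decide_eq_true ⟨a, ha, rfl⟩⟩
      have h1 := Set.ncard_le_ncard hsub
      rw [C.card_code fun n => decide (∃ l ∈ L, C.π l = n),
        ← List.toFinset_card_of_nodup (List.Nodup.filter _ List.nodup_range), ← hR,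
        ← Nat.card_coe_set_eq] at h1
      change Nat.card L ≤ _ at h1
      omega
    have hfixE : ∀ k ∈ E, ∀ v, Acts C k (wM 2 v) → ∀ r ∈ R, wM 2 v r = r := by
      intro k hk v hv r hr
      obtain ⟨-, l, hl, rfl⟩ := (mR r).1 hr
      rw [← hv l (Subgroup.mem_inf.1 hl).1, (hcomm k hk l hl).eq, mul_inv_cancel_right]
    have hkind : ∀ k ∈ E, k ≠ 1 → ∃ a ∈ ptsL, ∃ hk0 : k ∈ C.H0, C.φ ⟨k, hk0⟩ = wS [a] ∧
        ∀ r ∈ R, wM 2 [a] r = r := by
      intro k hk hk1
      have h2 : C.φ ⟨k, hk.2⟩ * C.φ ⟨k, hk.2⟩ = 1 := by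
        rw [← map_mul]
        exact (congrArg C.φ (Subtype.ext (hMmem k hk.1).2.2.2)).trans (map_one _)
      obtain ⟨w, hw, e⟩ := mem_invW h2 fun e => hk1 (hF k hk.1 ((C.φ_ker _).1 e))
      have hwp := invW_pts hw
      have ha := acts_word C hk.2 hwp e.symm
      rw [hm] at ha
      have hfR := hfixE k hk w ha
      have h64 := span_fix (fun a b => acts_xor C hxC hf) hsemi hRfix hwp hwp hfR hfR
      have hsame : cFix2 (wM 2 w) (wM 2 w) = cFix (wM 2 w) :=
        congrArg List.length (List.filter_congr fun n _ => Bool.and_self _)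
      rcases List.mem_append.1 hw with hw' | hw'
      · obtain ⟨a, ha', rfl⟩ := List.mem_map.1 hw'
        exact ⟨a, ha', hk.2, e, hfR⟩
      · exfalso
        rw [hsame, beq_iff_eq.1 (List.all_eq_true.1 Fi22Recog95.Mod.natPairSize_ok w hw')] at h64
        nlinarith
    have hE2 : ∀ k ∈ E, ∀ l ∈ E, k ≠ 1 → l ≠ 1 → k = l := by
      intro k hk l hl hk1 hl1
      obtain ⟨a, ha, hk0, ea, hfa⟩ := hkind k hk hk1
      obtain ⟨b, hb, hl0, eb, hfb⟩ := hkind l hl hl1
      have h64 := span_fix (fun a b => acts_xor C hxC hf) hsemi hRfix (OkW.single ha) (OkW.single hb) hfa hfb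
      have h := List.all_eq_true.1 (List.all_eq_true.1 Fi22Recog95.Mod.natRigid_ok a ha) b hb
      simp only [Bool.or_eq_true, beq_iff_eq, decide_eq_true_eq] at h
      rcases h with rfl | h
      · have h1 : k * l = 1 := hF _ (mul_mem hk.1 hl.1) ((C.φ_ker (⟨k, hk0⟩ * ⟨l, hl0⟩)).1 (by
          rw [map_mul, ea, eb, wS_single, tC_sq ha]))
        rw [eq_inv_of_mul_eq_one_left h1, inv_eq_of_mul_eq_one_right (hMmem l hl.1).2.2.2]
      · nlinarith
    have hle : Nat.card E ≤ 2 := by
      show Nat.card (E : Set G) ≤ 2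
      rw [Nat.card_coe_set_eq]
      by_cases h : ∃ k ∈ E, k ≠ 1
      · obtain ⟨k, hk, hk1⟩ := h
        refine (Set.ncard_le_ncard (t := ({1, k} : Set G)) fun l hl => ?_).trans
          ((Set.ncard_insert_le _ _).trans (by simp))
        by_cases hl1 : l = 1
        · exact Or.inl hl1
        · exact Or.inr (hE2 l hl k hk hl1 hk1)
      · push Not at h
        exact (Set.ncard_le_ncard (t := ({1} : Set G)) fun l hl => h l hl).trans (by simp)
    omega

end Cfsg.Agent.Lib.U62Outer7
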