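import Cfsg.Agent.Lib.U62Outer7.SixForm

/-!
The six-dimensional case with `H0` of index two: no conjugate of `z` other than `z` lies in `J`.

If `x = g z g⁻¹` does, the part of `H0` carried into `J ∩ C(x)` gives an elementary group of order sixteen
in the stabiliser of the code of the partner, invariant under that stabiliser. So that code is singular on
the six bits and the group is the normal one of order sixteen, which no element outside `H0` centralises.

Owner: helper7 (S3231).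
-/

set_option autoImplicit false
set_option linter.style.haveILetI false
set_option maxRecDepth 20000

namespace Cfsg.Agent.Lib.U62Outer7

open Cfsg.Agent.Lib.U62Cent47 Cfsg.Agent.Lib.U62Recog47
open Cfsg.Agent.Lib.Fi22Recog95.Mod (joinC joinC_ok joinC_split joinC_qB joinC_inj six_lt wM_join
  six_span Add6 ext6 add6_wM add6_comp invW invW_pts mem_invW eqW_of_wS)

/-- the fifteen involutions of the normal subgroup of order sixteen of the stabiliser of the code 5 -/
def o15 : List (List Nat) :=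
  [[20], [65], [85], [105], [125], [20, 65], [20, 85], [20, 105], [20, 125], [65, 85], [65, 105],
    [65, 125], [85, 105], [85, 125], [105, 125]]

/-- `w` does not commute with its conjugate by `s` -/
def moves (s w : List Nat) : Bool := !eqW (s ++ w ++ s.reverse ++ w) (w ++ (s ++ w ++ s.reverse))

theorem stab36_ok : invW.all (fun w =>
    !(wM 0 w 1 == 1) || invW.any fun s => wM 0 s 1 == 1 && moves s w) = true := by decide +kernel

theorem stab27_ok : invW.all (fun w =>
    !(wM 0 w 5 == 5) || o15.contains w || invW.any fun s => wM 0 s 5 == 5 && moves s w) = true := by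
  decide +kernel

theorem o15_pts : o15.all (fun w => w.all fun a => ptsL.contains a) = true := by decide +kernel

theorem orbit16_ok : (List.range 64).all (fun y => qB 0 y || !bB 0 y 5 ||
    ([] :: o15).any fun e => wM 0 e 6 == y) = true := by decide +kernel

theorem span16_ok : (List.range 6).all (fun j =>
    let A := ([] :: o15).map fun e => wM 0 e 6
    A.any fun a => A.any fun b => a ^^^ b == 2 ^ j || A.any fun c => a ^^^ b ^^^ c == 2 ^ j) = true := by
  decide +kernel

theorem singular_root_ok : ∀ m < 2, (List.range 4).all (fun u => (List.range 4).all fun v =>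
    !qU m u || qU m v || bB m (joinC 0 v) (joinC 0 u) || v == 0) = true := by decide +kernel

theorem perp_root_ok : ∀ m < 2, (List.range 256).all (fun c =>
    (List.range 256).any fun n => qB m n && !bB m n c) = true := by decide +kernel

theorem six_base : qB 0 6 = false ∧ bB 0 6 5 = true ∧ (6 : Nat) < 64 := by decide +kernel

theorem w6_wM (w : List Nat) {y : Nat} (hy : y < 64) : wM 0 w y = w6 w y := by
  have h : ∀ y < 64, y &&& 63 = y ∧ y &&& 192 = 0 := by decide +kernel
  rw [wM_six (by norm_num) w y (by omega), (h y hy).1, (h y hy).2, Nat.or_zero]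

universe u

variable {G : Type u} [Group G] {z : G} (C : Ctx z) (hm : C.m < 2) (hcent : Cent C)

include hm hcent

theorem code_six_ne [Finite G] {g : G} (hJ : g * z * g⁻¹ ∈ C.J) (hs : g⁻¹ * z * g ∈ C.J)
    (hne : g * z * g⁻¹ ≠ z) {y v : Nat} (hy : y < 64) (hv : v < 4)
    (e : C.π (g * z * g⁻¹) = joinC y v) : y ≠ 0 := by
  intro hy0
  subst hy0
  obtain ⟨h0, hq⟩ := C.cls_code ⟨g, rfl⟩ hJ hne
  obtain ⟨d, hd, u, hu, hπd, hqu, -, hfix⟩ := exists_root C hm hcent
  obtain ⟨n, hn, hn'⟩ := List.any_eq_true.1 (List.all_eq_true.1 (perp_root_ok C.m hm) _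
    (List.mem_range.2 (C.π_lt _ hs)))
  simp only [Bool.and_eq_true, Bool.not_eq_true'] at hn'
  obtain ⟨a, ha, rfl⟩ := C.π_surj n (List.mem_range.1 hn)
  have hac : Commute a (g⁻¹ * z * g) := (C.commute_iff ha hs).2 hn'.2
  have haz : a * a = z := by rw [C.sq a ha, hn'.1, if_pos rfl]
  have hbC : g * a * g⁻¹ ∈ Cen z := by
    have h := cen_conj (g := g⁻¹) (a := a) (by rw [inv_inv]; exact hac.eq)
    rwa [inv_inv] at h
  set b := g * a * g⁻¹ with hbdef
  have hbb : b * b = g * z * g⁻¹ := by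
    rw [hbdef, show g * a * g⁻¹ * (g * a * g⁻¹) = g * (a * a) * g⁻¹ by group, haz]
  have hbd := C.J_conj b hbC d hd
  have hxd : Commute (g * z * g⁻¹) d := by
    refine mul_inv_eq_iff_eq_mul.1 ?_
    rw [← hbb, show b * b * d * (b * b)⁻¹ = b * (b * d * b⁻¹) * b⁻¹ by group]
    rcases (C.π_eq_iff hd hbd).1 (hfix b hbC).symm with e | e <;> rw [e]
    · exact e
    · rw [show b * (d * z) * b⁻¹ = b * d * b⁻¹ * (b * z * b⁻¹) by group, e, z_conj hbC,
        mul_assoc, C.z_mul_self, mul_one]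
  have h2 := (C.commute_iff hJ hd).1 hxd
  rw [e, hπd] at h2
  rw [e, (joinC_qB C.m hm 0 (by norm_num) v hv).2.2] at hq
  have h3 := List.all_eq_true.1 (List.all_eq_true.1 (singular_root_ok C.m hm) u (List.mem_range.2 hu)) v
    (List.mem_range.2 hv)
  simp only [hqu, hq, h2, Bool.not_true, Bool.false_or, beq_iff_eq] at h3
  rw [e, h3] at h0
  exact h0 rfl

/-- no conjugate of `z` other than `z` lies in `J`, after moving the code of the partner -/
theorem notJ_code [Finite G] (F : FactsProp) {g : G} (hJ : g * z * g⁻¹ ∈ C.J) (hs : g⁻¹ * z * g ∈ C.J)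
    (hne : g * z * g⁻¹ ≠ z) {y v : Nat} (hyv : y = 1 ∨ y = 5) (hv : v < 4)
    (hc : C.π (g⁻¹ * z * g) = joinC y v) : False := by
  classical
  have hy : y < 64 := by omega
  obtain ⟨h0, hq⟩ := C.cls_code ⟨g, rfl⟩ hJ hne
  have hN : (C.nbSet g).card ≤ 4 :=
    F.2.2.2.2.2.2.2.1.2 C.m hm _ (C.π_lt _ hJ) h0 hq _ (C.nb_sub hJ hs) (C.nb_mem hJ hs)
      (fun w hw e => C.nb_inv hJ hne hw e) (C.nb_iso hJ hne)
  set E := (C.backHom g).range with hE
  have hsq : ∀ e ∈ E, e * e = 1 := C.back_sq hs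
  have hQ := (C.card_back hJ hs hne).1
  rw [C.card_split hJ hs, ← hE] at hQ
  have hE16 : 16 ≤ Nat.card E := by nlinarith
  have hc0 : C.π (g⁻¹ * z * g) ≠ 0 := fun e =>
    hne (by
      rcases (C.π_eq_zero _ hs).1 e with e | e
      · exact absurd e (C.cls_sq (x := g⁻¹ * z * g) ⟨g⁻¹, by rw [inv_inv]⟩).2
      · calc g * z * g⁻¹ = g * (g⁻¹ * z * g) * g⁻¹ := by rw [e]
          _ = z := by group)
  -- every member fixes the six bits of the partner
  have hfix : ∀ e ∈ E, ∀ w, OkW w → wS w = e → wM 0 w y = y := by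
    rintro _ ⟨⟨q, hq'⟩, rfl⟩ w hw ew
    obtain ⟨hq0, hqJ, -⟩ := C.mem_back.1 hq'
    have hc' : q * (g⁻¹ * z * g) * q⁻¹ = g⁻¹ * z * g := by
      calc q * (g⁻¹ * z * g) * q⁻¹ = g⁻¹ * (g * q * g⁻¹ * z) * (g * q * g⁻¹)⁻¹ * g := by group
        _ = _ := by rw [C.comm_z hqJ]; group
    have hπ := C.π_conj hq0 hw ew hs
    rw [hc', hc, wM_join hm w hy hv] at hπ
    exact (joinC_inj (six_lt w hy) hy hv hv hπ.symm).1
  -- it is invariant under the stabiliser
  have hinv : ∀ s, OkW s → wM 0 s y = y → ∀ e ∈ E, wS s * e * (wS s)⁻¹ ∈ E := by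
    rintro s hso hsy _ ⟨⟨q, hq'⟩, rfl⟩
    obtain ⟨hq0, hqJ, hqx⟩ := C.mem_back.1 hq'
    obtain ⟨h, hh, hhx, hφ⟩ := C.move hs hs hc0 hso (by rw [hc, wM_join hm s hy hv, hsy])
    have hhx' : h * (g⁻¹ * z * g) = g⁻¹ * z * g * h := mul_inv_eq_iff_eq_mul.1 hhx
    have hk : g * h * g⁻¹ ∈ Cen z := mem_cen.2 (by
      calc g * h * g⁻¹ * z = g * (h * (g⁻¹ * z * g)) * g⁻¹ := by group
        _ = _ := by rw [hhx']; group)
    have hkx : Commute (g * h * g⁻¹) (g * z * g⁻¹) := by
      show _ = _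
      calc g * h * g⁻¹ * (g * z * g⁻¹) = g * (h * z) * g⁻¹ := by group
        _ = _ := by rw [mem_cen.1 (C.H0_le hh)]; group
    refine ⟨⟨h * q * h⁻¹, C.mem_back.2 ⟨mul_mem (mul_mem hh hq0) (inv_mem hh), ?_, ?_⟩⟩, ?_⟩
    · rw [show g * (h * q * h⁻¹) * g⁻¹ = g * h * g⁻¹ * (g * q * g⁻¹) * (g * h * g⁻¹)⁻¹ by group]
      exact C.J_conj _ hk _ hqJ
    · rw [show g * (h * q * h⁻¹) * g⁻¹ = g * h * g⁻¹ * (g * q * g⁻¹) * (g * h * g⁻¹)⁻¹ by group]
      exact (hkx.mul_left hqx).mul_left hkx.inv_left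
    · show C.φ (⟨h, hh⟩ * ⟨q, hq0⟩ * ⟨h, hh⟩⁻¹) = _
      rw [map_mul, map_mul, map_inv, hφ]
      rfl
  have hnomove : ∀ w s, OkW w → OkW s → wS w ∈ E → wM 0 s y = y → moves s w = false := by
    intro w s hw hso hwE hsy
    have hcE := hinv s hso hsy _ hwE
    have h := (commute_of_elem hsq hcE hwE).eq
    rw [← wS_reverse hso, ← wS_append, ← wS_append, ← wS_append, ← wS_append] at h
    have hsws := (hso.append hw).append hso.reverse
    rw [moves, eqW_of_wS (hsws.append hw) (hw.append hsws) h]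
    rfl
  rcases hyv with rfl | rfl
  · have hbot : E = ⊥ := by
      refine (Subgroup.eq_bot_iff_forall _).2 fun e he => ?_
      by_contra he1
      obtain ⟨w, hw, rfl⟩ := mem_invW (hsq e he) he1
      have h := List.all_eq_true.1 stab36_ok w hw
      simp only [hfix _ he w (invW_pts hw) rfl, beq_self_eq_true, Bool.not_true, Bool.false_or,
        List.any_eq_true, Bool.and_eq_true, beq_iff_eq] at h
      obtain ⟨s, hs', hsy, hmv⟩ := h
      rw [hnomove w s (invW_pts hw) (invW_pts hs') he hsy] at hmv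
      exact Bool.noConfusion hmv
    rw [hbot, Subgroup.card_bot] at hE16
    omega
  have hmem : ∀ e ∈ E, e ≠ 1 → ∃ w ∈ o15, e = wS w := by
    intro e he he1
    obtain ⟨w, hw, rfl⟩ := mem_invW (hsq e he) he1
    have h := List.all_eq_true.1 stab27_ok w hw
    simp only [hfix _ he w (invW_pts hw) rfl, beq_self_eq_true, Bool.not_true, Bool.false_or,
      Bool.or_eq_true, List.contains_iff_mem, List.any_eq_true, Bool.and_eq_true, beq_iff_eq] at h
    refine h.elim (fun h => ⟨w, h, rfl⟩) ?_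
    rintro ⟨s, hs', hsy, hmv⟩
    rw [hnomove w s (invW_pts hw) (invW_pts hs') he hsy] at hmv
    exact Bool.noConfusion hmv
  have hfull : ∀ w ∈ [] :: o15, wS w ∈ E := by
    intro w hw
    set S : Finset SU4 := (([] :: o15).map wS).toFinset with hS
    have hsub : (E : Set SU4) ⊆ S := fun e he => by
      simp only [hS, List.coe_toFinset, Set.mem_setOf_eq, List.mem_map]
      by_cases he1 : e = 1
      · exact ⟨[], List.mem_cons_self, wS_nil.trans he1.symm⟩
      · obtain ⟨w, hw, e'⟩ := hmem e he he1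
        exact ⟨w, List.mem_cons_of_mem _ hw, e'.symm⟩
    have hcS : (S : Set SU4).ncard ≤ 16 := by
      rw [Set.ncard_coe_finset]
      exact (List.toFinset_card_le _).trans (by simp [o15])
    have heq : (E : Set SU4) = S := Set.eq_of_subset_of_ncard_le hsub (by
      rw [← Nat.card_coe_set_eq (E : Set SU4), SetLike.coe_sort_coe]; omega) (Finset.finite_toSet S)
    exact heq.ge (by simp only [hS, List.coe_toFinset, Set.mem_setOf_eq]; exact List.mem_map.2 ⟨w, hw, rfl⟩)
  have hpts : ∀ w ∈ [] :: o15, OkW w := by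
    intro w hw
    rcases List.mem_cons.1 hw with rfl | hw
    · exact OkW.nil
    · exact fun a ha => by simpa using List.all_eq_true.1 (List.all_eq_true.1 o15_pts w hw) a ha
  -- an element outside
  obtain ⟨q, hqJ, hqx, hq1⟩ : ∃ q, g * q * g⁻¹ ∈ C.J ∧ Commute (g * q * g⁻¹) (g * z * g⁻¹) ∧ q ∉ C.H0 := by
    by_contra hcon
    push Not at hcon
    have h256 : Nat.card ↥(C.back g) = 256 := by
      have hP := card_orbit_mul C.J (g * z * g⁻¹)
      have horb : {a : G | ∃ j ∈ C.J, j * (g * z * g⁻¹) * j⁻¹ = a} = {g * z * g⁻¹, z * (g * z * g⁻¹)} := by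
        ext a
        simp only [Set.mem_setOf_eq, Set.mem_insert_iff, Set.mem_singleton_iff]
        constructor
        · rintro ⟨j, hj, rfl⟩
          rw [C.conj_eq hj hJ]
          cases bB C.m (C.π j) (C.π (g * z * g⁻¹)) <;> simp
        · rintro (rfl | rfl)
          · exact ⟨1, one_mem _, by group⟩
          · exact C.exists_flip hJ h0
      rw [horb, Set.ncard_pair fun e => C.z_ne_one (mul_eq_right.1 e.symm), C.card_J] at hP
      have e : C.back g = (C.J ⊓ Cen (g * z * g⁻¹)).comap (MulAut.conj g).toMonoidHom := by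
        refine le_antisymm inf_le_right fun q hq => ?_
        obtain ⟨h1, h2⟩ := Subgroup.mem_inf.1 (Subgroup.mem_comap.1 hq)
        exact Subgroup.mem_inf.2 ⟨hcon q h1 (mem_cen.1 h2), hq⟩
      have e2 : (C.J ⊓ Cen (g * z * g⁻¹)).comap (MulAut.conj g).toMonoidHom =
          (C.J ⊓ Cen (g * z * g⁻¹)).map (MulAut.conj g).symm.toMonoidHom :=
        Subgroup.comap_equiv_eq_map_symm (MulAut.conj g) _
      rw [e, e2,
        Subgroup.card_map_of_injective (f := (MulAut.conj g).symm.toMonoidHom) (MulAut.conj g).symm.injective]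
      omega
    rw [C.card_split hJ hs, ← hE] at h256
    have hR := F.2.2.2.1 E hsq
    nlinarith
  have hqC : q ∈ Cen z := by
    have h := cen_conj (g := g) (a := g * q * g⁻¹) hqx.eq
    rwa [show g⁻¹ * (g * q * g⁻¹) * g = q by group] at h
  obtain ⟨f, F6, s, hf, hF6, hFq, -, hs4, -, -, hjoin⟩ := exists_blocks C hm hqC
  have hF5 : F6 5 = 5 := by
    have hc' : q * (g⁻¹ * z * g) * q⁻¹ = g⁻¹ * z * g := by
      calc q * (g⁻¹ * z * g) * q⁻¹ = g⁻¹ * (g * q * g⁻¹ * z) * (g * q * g⁻¹)⁻¹ * g := by group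
        _ = _ := by rw [C.comm_z hqJ]; group
    have hπ := hf _ hs
    rw [hc', hc, hjoin 5 hy v hv] at hπ
    exact (joinC_inj (hF6.1 5 hy) hy (hs4 v hv).1 hv hπ.symm).1
  have hFcomm : ∀ w ∈ [] :: o15, ∀ y < 64, F6 (wM 0 w y) = wM 0 w (F6 y) := by
    intro w hw y hy
    obtain ⟨⟨p, hp⟩, ep⟩ := hfull w hw
    obtain ⟨hp0, hpJ, -⟩ := C.mem_back.1 hp
    have hap := acts_word C hp0 (hpts w hw) ep.symm
    have hcm : (q * p)⁻¹ * (p * q) ∈ C.J := by
      have e' : (q * p)⁻¹ * (p * q) =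
          g⁻¹ * ((g * p * g⁻¹)⁻¹ * ((g * q * g⁻¹)⁻¹ * (g * p * g⁻¹) * (g * q * g⁻¹))) * g := by group
      have h' := C.conj_eq (inv_mem hqJ) hpJ
      rw [inv_inv] at h'
      rw [e', h']
      cases bB C.m (C.π (g * q * g⁻¹)⁻¹) (C.π (g * p * g⁻¹))
      · rw [if_neg (by simp), inv_mul_cancel]; simp
      · rw [if_pos rfl, ← C.comm_z hpJ, inv_mul_cancel_left]
        simpa [mul_assoc] using hs
    have h1 := acts_mul C (C.J_le.trans C.H0_le hcm) (acts_mul C (C.H0_le hp0) hf hap) (acts_J C hcm)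
    rw [mul_inv_cancel_left] at h1
    have h2 := acts_unique C h1 (acts_mul C hqC hap hf) (joinC y 0) (joinC_ok y hy 0 (by norm_num)).1
    rw [wM_join hm w hy (by norm_num), hjoin _ (six_lt w hy) 0 (by norm_num), hjoin y hy 0 (by norm_num),
      wM_join hm w (hF6.1 y hy) (hs4 0 (by norm_num)).1] at h2
    exact (joinC_inj (hF6.1 _ (six_lt w hy)) (six_lt w (hF6.1 y hy)) (hs4 0 (by norm_num)).1
      (hs4 0 (by norm_num)).1 h2).1
  -- it acts on six bits as one of the sixteen
  obtain ⟨hq6, hb6, h6⟩ := six_base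
  obtain ⟨e, he, ee⟩ : ∃ e ∈ [] :: o15, wM 0 e 6 = F6 6 := by
    have h := List.all_eq_true.1 orbit16_ok (F6 6) (List.mem_range.2 (hF6.1 6 h6))
    have hb : bB 0 (F6 6) 5 = true := by
      rw [← hb6, bB, bB, ← hFq _ (show 6 ^^^ 5 < 64 by decide), hF6.2 6 5 h6 hy, hF5, hFq 6 h6]
    simp only [hFq 6 h6, hq6, hb, Bool.not_true, Bool.false_or, List.any_eq_true, beq_iff_eq] at h
    exact h
  have hFe : ∀ y < 64, F6 y = wM 0 e y := by
    have hA : ∀ a ∈ ([] :: o15).map (fun w => wM 0 w 6), a < 64 ∧ F6 a = wM 0 e a := by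
      intro a ha
      obtain ⟨w, hw, rfl⟩ := List.mem_map.1 ha
      refine ⟨six_lt w h6, ?_⟩
      rw [hFcomm w hw 6 h6, ← ee]
      have h := (commute_of_elem hsq (hfull w hw) (hfull e he)).eq
      rw [← wS_append, ← wS_append] at h
      obtain ⟨p, hp0, ep, hap⟩ := exists_lift C ((hpts w hw).append (hpts e he))
      have hap' := acts_word C hp0 ((hpts e he).append (hpts w hw)) (h.symm.trans ep.symm)
      have hj := Fi22Recog95.Mod.wM_six (m := C.m) hm
      rw [← wM_append, ← wM_append, ← hj _ (by norm_num), ← hj _ (by norm_num)]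
      exact acts_unique C hap hap' _ (by norm_num)
    have hadd : ∀ a b, a < 64 → b < 64 → F6 a = wM 0 e a → F6 b = wM 0 e b →
        F6 (a ^^^ b) = wM 0 e (a ^^^ b) := fun a b ha hb ea eb => by
      rw [hF6.2 a b ha hb, ea, eb, wM_xor 0 e (by omega) (by omega)]
    refine fun y hy => ext6 hF6 (add6_wM e) (fun j hj => ?_) hy
    have h := List.all_eq_true.1 span16_ok j (List.mem_range.2 hj)
    simp only [List.any_eq_true, Bool.or_eq_true, beq_iff_eq] at h
    obtain ⟨a, ha, b, hb, h⟩ := h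
    have hab := hadd a b (hA a ha).1 (hA b hb).1 (hA a ha).2 (hA b hb).2
    rcases h with h | ⟨c, hc, h⟩
    · rwa [← h]
    · rw [← h]
      exact hadd _ c (Nat.xor_lt_two_pow (n := 6) (hA a ha).1 (hA b hb).1) (hA c hc).1 hab (hA c hc).2
  -- so it lies in `H0`
  obtain ⟨k, hk, -, hak⟩ := exists_lift C (hpts e he).reverse
  refine hq1 ?_
  have hkq : Acts C (k * q) fun n => joinC (n &&& 63) (s (n >>> 6)) :=
    acts_join C (acts_mul C hqC hak hf) fun y hy u hu => by
      simp only [(joinC_ok y hy u hu).2.1, (joinC_ok y hy u hu).2.2.1]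
      rw [hjoin y hy u hu, wM_join hm _ (hF6.1 y hy) (hs4 u hu).1, hFe y hy]
      exact congrArg (joinC · (s u)) (Fi22Recog95.Mod.wM_rev (hpts e he) hy).2
  have hJ' := mem_J_of_comm C hcent (mul_mem (C.H0_le hk) hqC) hkq fun w _ n hn => by
    obtain ⟨h1, h2, h3, -⟩ := joinC_split n hn
    conv_lhs => rw [← h3]
    rw [wM_join hm w h1 h2, wM_join hm w h1 (hs4 _ h2).1, (joinC_ok _ (six_lt w h1) _ h2).2.1,
      (joinC_ok _ (six_lt w h1) _ h2).2.2.1]
  simpa using mul_mem (inv_mem hk) (C.J_le hJ')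

omit hm in
/-- no conjugate of `z` other than `z` lies in `J` -/
theorem notJ [Finite G] (F : FactsProp) : ∀ x ∈ cls z, x ∈ C.J → x = z := by
  by_cases hm : C.m < 2
  swap
  · exact C.notJ F fun h => absurd h hm
  rintro _ ⟨g, rfl⟩ hJ
  by_contra hne
  have hs := C.star_J F hJ hne
  have hne' : g⁻¹ * z * g ≠ z := fun e => hne (by
    calc g * z * g⁻¹ = g * (g⁻¹ * z * g) * g⁻¹ := by rw [e]
      _ = z := by group)
  obtain ⟨hy, hv, hj, -⟩ := joinC_split _ (C.π_lt _ hs)
  have hy0 : C.π (g⁻¹ * z * g) &&& 63 ≠ 0 :=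
    code_six_ne C hm hcent (g := g⁻¹) (by rwa [inv_inv]) (by rwa [inv_inv]) (by rwa [inv_inv]) hy hv
      (by rw [inv_inv, hj])
  set v := C.π (g⁻¹ * z * g) >>> 6 with hvdef
  set y := C.π (g⁻¹ * z * g) &&& 63 with hydef
  obtain ⟨w, hw, ew⟩ := F.1.2 y hy hy0
  set r0 := (bif qB 0 y then 1 else 5) with hr0
  have hr : r0 = 1 ∨ r0 = 5 := by rw [hr0]; cases qB 0 y <;> simp
  have hr64 : r0 < 64 := by omega
  obtain ⟨a, ha, hπa⟩ := C.π_surj _ (joinC_ok r0 hr64 v hv).1
  obtain ⟨r, hr0', hrx, -⟩ := C.move ha hs (fun e => by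
    rw [← hj] at e
    exact hy0 (joinC_inj hy (by norm_num) hv (by norm_num) (e.trans (show 0 = joinC 0 0 from rfl))).1) hw
    (by rw [hπa, wM_join hm w hr64 hv, w6_wM w hr64, ew, hj])
  have e1 : g * r * z * (g * r)⁻¹ = g * z * g⁻¹ := by
    rw [show g * r * z * (g * r)⁻¹ = g * (r * z * r⁻¹) * g⁻¹ by group, z_conj (C.H0_le hr0')]
  have e2 : (g * r)⁻¹ * z * (g * r) = a := by
    rw [show (g * r)⁻¹ * z * (g * r) = r⁻¹ * (g⁻¹ * z * g) * r by group, ← hrx]; group
  exact notJ_code C hm hcent F (g := g * r) (e1 ▸ hJ) (e2 ▸ ha) (e1 ▸ hne) hr hv (e2 ▸ hπa)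

end Cfsg.Agent.Lib.U62Outer7
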