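import Cfsg.Agent.Lib.U62Outer7.Act
import Cfsg.Agent.Lib.U62Cent47.Main
import Cfsg.Agent.Lib.Fi22Recog95.Mod.SixForm

/-!
The six-dimensional case with `H0` of index two: the action of an element outside `H0` in normal form, and
a square root of `z` whose code the whole centraliser fixes.

Owner: helper7 (S3231).
-/

set_option autoImplicit false
set_option linter.style.haveILetI false
set_option maxRecDepth 20000

namespace Cfsg.Agent.Lib.U62Outer7

open Cfsg.Agent.Lib.U62Cent47 Cfsg.Agent.Lib.U62Recog47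
open Cfsg.Agent.Lib.Fi22Recog95.Mod (joinC joinC_ok joinC_split joinC_xor joinC_qB joinC_inj six_lt wM_join
  oM oM_join o6 six_span Add6 ext6 add6_wM add6_o6 add6_comp rAct rAct_facts exists_act6 sig_finish sigL sigL_ok
  sylP sylP_mem sylP_lower card_sylP card_SU4 sylL_pts sylL_nodup_ok outTab sixOuterTab_ok sixMove_ok
  sixFixed_ok wM_six)


universe u

variable {G : Type u} [Group G] {z : G} (C : Ctx z) (hm : C.m < 2)

theorem same_mem {h h' : G} (hh : h ∈ C.H0) (hh' : h' ∈ C.H0) {f f' : Nat → Nat} (ha : Acts C h f)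
    (ha' : Acts C h' f') (e : ∀ n < 256, f n = f' n) : h * h'⁻¹ ∈ C.J := by
  refine trivial_mem C (mul_mem hh (inv_mem hh')) fun j hj => ?_
  have hk : h'⁻¹ * j * h' ∈ C.J := by simpa using C.J_conj h'⁻¹ (inv_mem (C.H0_le hh')) j hj
  rw [show h * h'⁻¹ * j * (h * h'⁻¹)⁻¹ = h * (h'⁻¹ * j * h') * h⁻¹ by group, ha _ hk,
    e _ (C.π_lt _ hk), ← ha' _ hk]
  congr 1
  group

theorem inv2_congr {g : G} (hg : g ∈ Cen z) {f : Nat → Nat} (ha : Acts C g f) :
    g * g ∈ C.J ↔ ∀ n < 256, f (f n) = n :=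
  ⟨fun h => acts_unique C (acts_mul C hg ha ha) (acts_J C h),
    fun h => trivial_mem C (C.H0_sq g hg) (acts_congr C (acts_mul C hg ha ha) h)⟩

theorem acts_join {g : G} {f f' : Nat → Nat} (h : Acts C g f)
    (e : ∀ y < 64, ∀ u < 4, f (joinC y u) = f' (joinC y u)) : Acts C g f' :=
  acts_congr C h fun n hn => by
    obtain ⟨h1, h2, h3, -⟩ := joinC_split n hn
    rw [← h3, e _ h1 _ h2]

include hm

/-- the shape of the action of any element of `C(z)` -/
theorem exists_blocks {g : G} (hg : g ∈ Cen z) :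
    ∃ f F, ∃ s : Nat → Nat, Acts C g f ∧ Add6 F ∧ (∀ y < 64, qB 0 (F y) = qB 0 y) ∧
      (∀ y < 64, F y = 0 → y = 0) ∧ (∀ u < 4, s u < 4 ∧ qU C.m (s u) = qU C.m u) ∧
      s 0 = 0 ∧ s 3 = s 1 ^^^ s 2 ∧
      ∀ y < 64, ∀ u < 4, f (joinC y u) = joinC (F y) (s u) := by
  obtain ⟨f, hf⟩ := exists_map C hg
  obtain ⟨f', hf'⟩ := exists_map C (inv_mem hg)
  have hlt : ∀ n < 256, f n < 256 := fun n hn => acts_lt C hg hf hn
  have hlt' : ∀ n < 256, f' n < 256 := fun n hn => acts_lt C (inv_mem hg) hf' hn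
  have hadd : ∀ x y, x < 256 → y < 256 → f (x ^^^ y) = f x ^^^ f y := fun x y hx hy =>
    acts_xor C hg hf hx hy
  have hff : ∀ n < 256, f (f' n) = n := by
    refine acts_unique C (acts_mul C (inv_mem hg) hf hf') ?_
    rw [mul_inv_cancel]; exact acts_J C (one_mem _)
  have hff' : ∀ n < 256, f' (f n) = n := by
    refine acts_unique C (acts_mul C hg hf' hf) ?_
    rw [inv_mul_cancel]; exact acts_J C (one_mem _)
  -- the six bits are kept
  have hlow : ∀ y < 64, f y < 64 := by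
    intro y hy
    refine (six_span (P := fun y => f y < 64 ∧ y < 256) ⟨?_, by norm_num⟩ ?_ ?_ hy).1
    · rw [acts_zero C hg hf]; norm_num
    · intro j hj
      have h := List.all_eq_true.1 sixMove_ok j (List.mem_range.2 hj)
      simp only [List.any_eq_true, List.contains_iff_mem, List.mem_eraseDups] at h
      obtain ⟨x, hx, hy'⟩ := h
      have hmove : ∀ x ∈ (ptsL.flatMap fun a => (List.range 64).map fun k => wM 0 [a] k ^^^ k),
          x < 256 ∧ f x < 64 := by
        intro x hx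
        obtain ⟨b, hb, hx⟩ := List.mem_flatMap.1 hx
        obtain ⟨k, hk, rfl⟩ := List.mem_map.1 hx
        rw [List.mem_range] at hk
        have hk' : k < 256 := by omega
        obtain ⟨v, hv, hfv⟩ := map_word C hg hf (OkW.single hb)
        refine ⟨xor_lt8 (wM_lt _ _ hk') hk', ?_⟩
        rw [hadd _ _ (wM_lt _ _ hk') hk', ← wM_six hm [b] hk', hfv k hk']
        obtain ⟨h1, h2, h3, -⟩ := joinC_split _ (hlt k hk')
        rw [← h3, wM_join hm v h1 h2, show joinC (wM 0 v (f k &&& 63)) (f k >>> 6) ^^^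
          joinC (f k &&& 63) (f k >>> 6) = wM 0 v (f k &&& 63) ^^^ (f k &&& 63) by
            rw [joinC, joinC, xor_swap4, Nat.xor_self, Nat.xor_zero]]
        exact Nat.xor_lt_two_pow (n := 6) (six_lt v h1) h1
      refine ⟨?_, pow_lt (by omega)⟩
      rw [show 2 ^ j = x ^^^ (2 ^ j ^^^ x) by
        rw [Nat.xor_comm (2 ^ j), ← Nat.xor_assoc, Nat.xor_self, Nat.zero_xor],
        hadd _ _ (hmove x hx).1 (hmove _ hy').1]
      exact Nat.xor_lt_two_pow (n := 6) (hmove x hx).2 (hmove _ hy').2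
    · rintro x y hx hy ⟨h1, h1'⟩ ⟨h2, h2'⟩
      exact ⟨by rw [hadd _ _ h1' h2']; exact Nat.xor_lt_two_pow (n := 6) h1 h2, xor_lt8 h1' h2'⟩
  -- the plane is kept
  have hhigh : ∀ u < 4, f (joinC 0 u) = joinC 0 (f (joinC 0 u) >>> 6) ∧ f (joinC 0 u) >>> 6 < 4 := by
    intro u hu
    have hn := (joinC_ok 0 (by norm_num) u hu).1
    obtain ⟨h1, h2, h3, -⟩ := joinC_split _ (hlt _ hn)
    refine ⟨?_, h2⟩
    have hfix : (U62Cent47.genL.all fun x => wM 0 [x] (f (joinC 0 u)) == f (joinC 0 u)) = true := by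
      refine List.all_eq_true.2 fun x hx => beq_iff_eq.2 ?_
      rw [← wM_six hm [x] (hlt _ hn)]
      obtain ⟨v, hv, hfv⟩ := map_word C (inv_mem hg) hf' (OkW.single (gen_pts x hx))
      have e := hfv _ (hlt _ hn)
      have hz : wM 0 v 0 = 0 := wM_zero 0 v
      rw [hff' _ hn, wM_join hm v (by norm_num) hu, hz] at e
      have := hff _ (wM_lt C.m [x] (hlt _ hn))
      rw [e] at this
      exact this.symm
    have h := List.all_eq_true.1 sixFixed_ok _ (List.mem_range.2 (hlt _ hn))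
    rw [hfix] at h
    simp only [beq_iff_eq, Bool.true_eq, beq_iff_eq] at h
    conv_lhs => rw [← h3, h]
  have hs0 : f (joinC 0 0) >>> 6 = 0 := by
    rw [show joinC 0 0 = 0 from rfl, acts_zero C hg hf]; rfl
  refine ⟨f, f, fun u => f (joinC 0 u) >>> 6, hf, ⟨hlow, fun x y hx hy => hadd x y (by omega) (by omega)⟩,
    ?_, ?_, ?_, hs0, ?_, ?_⟩
  · intro y hy
    have := acts_q C hg hf (n := y) (by omega)
    rwa [(joinC_qB C.m hm _ (hlow y hy) 0 (by norm_num)).2.1, (joinC_qB C.m hm y hy 0 (by norm_num)).2.1]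
      at this
  · intro y hy h0
    have := hff' y (by omega)
    rw [h0, acts_zero C (inv_mem hg) hf'] at this
    exact this.symm
  · intro u hu
    refine ⟨(hhigh u hu).2, ?_⟩
    have := acts_q C hg hf (joinC_ok 0 (by norm_num) u hu).1
    rwa [(hhigh u hu).1, (joinC_qB C.m hm 0 (by norm_num) _ (hhigh u hu).2).2.2,
      (joinC_qB C.m hm 0 (by norm_num) u hu).2.2] at this
  · show f (joinC 0 3) >>> 6 = f (joinC 0 1) >>> 6 ^^^ f (joinC 0 2) >>> 6
    rw [show joinC 0 3 = joinC 0 1 ^^^ joinC 0 2 from rfl, hadd _ _ (joinC_ok 0 (by norm_num) 1 (by norm_num)).1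
      (joinC_ok 0 (by norm_num) 2 (by norm_num)).1, Nat.shiftRight_xor_distrib]
  · intro y hy u hu
    rw [show joinC y u = y ^^^ joinC 0 u by simp [joinC], hadd _ _ (by omega) (joinC_ok 0 (by norm_num) u hu).1,
      (hhigh u hu).1]
    simp [joinC]

/-- an element outside `C.H0` as a word, the reflection and an involution of the plane -/
theorem outer_word [Finite G] (hcent : Cent C) {g : G} (hg : g ∈ Cen z)
    (hg1 : g ∉ C.H0) :
    ∃ s ∈ sigL C.m, ∃ w, (∀ x ∈ w, x ∈ ptsL) ∧ Acts C g (oM C.m s w) := by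
  obtain ⟨f, F, s, hf, hF, hq, hi, hs, hs0, hs3, hjoin⟩ := exists_blocks C hm hg
  obtain ⟨b, w, hw, ew⟩ := exists_act6 hF hq hi
  have hss : ∀ u < 4, s (s u) = u := by
    intro u hu
    obtain ⟨v, hv, -, hav⟩ := exists_acts C (mul_mem_H0 C hg hg hg1 hg1)
    have h := acts_unique C (acts_mul C hg hf hf) hav _ (joinC_ok 0 (by norm_num) u hu).1
    have h0 : F 0 = 0 := by
      have := hF.2 0 0 (by norm_num) (by norm_num)
      rwa [Nat.xor_self, Nat.xor_self] at this
    rw [hjoin 0 (by norm_num) u hu, h0, hjoin 0 (by norm_num) _ (hs u hu).1, h0,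
      wM_join hm v (by norm_num) hu, wM_zero] at h
    exact (joinC_inj (by norm_num) (by norm_num) (hs _ (hs u hu).1).1 hu h).2
  set L : List Nat := [0, s 1, s 2, s 1 ^^^ s 2] with hLdef
  have hL : ∀ u < 4, L.getD u 0 = s u := by
    intro u hu
    interval_cases u <;> simp [hLdef, hs0, hs3]
  have hmem : L ∈ sigL C.m := sig_finish C.m hm _ (hs 1 (by norm_num)).1 _ (hs 2 (by norm_num)).1
    fun u hu => ⟨by rw [← hLdef, hL u hu, hL _ (hs u hu).1, hss u hu], by rw [← hLdef, hL u hu, (hs u hu).2]⟩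
  cases b
  · exfalso
    have hrev : ∀ x ∈ w.reverse, x ∈ ptsL := fun x hx => hw x (List.mem_reverse.1 hx)
    obtain ⟨k, hk, -, hak⟩ := exists_lift C hrev
    have hg' : k * g ∈ Cen z := mul_mem (C.H0_le hk) hg
    have ha' : Acts C (k * g) fun n => joinC (n &&& 63) (s (n >>> 6)) :=
      acts_join C (acts_mul C hg hak hf) fun y hy u hu => by
        simp only [(joinC_ok y hy u hu).2.1, (joinC_ok y hy u hu).2.2.1]
        rw [hjoin y hy u hu, wM_join hm _ (hF.1 y hy) (hs u hu).1, ew y hy]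
        exact congrArg (joinC · (s u)) (Fi22Recog95.Mod.wM_rev hw hy).2
    refine hg1 ?_
    have hJ := mem_J_of_comm C hcent hg' ha' fun v _ n hn => by
      obtain ⟨h1, h2, h3, -⟩ := joinC_split n hn
      conv_lhs => rw [← h3]
      rw [wM_join hm v h1 h2, wM_join hm v h1 (hs _ h2).1, (joinC_ok _ (six_lt v h1) _ h2).2.1,
        (joinC_ok _ (six_lt v h1) _ h2).2.2.1]
    simpa using mul_mem (inv_mem hk) (C.J_le hJ)
  · refine ⟨L, hmem, w, hw, acts_join C hf fun y hy u hu => ?_⟩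
    rw [hjoin y hy u hu, oM_join hm L w hy hu, hL u hu, ew y hy]
    rfl

/-- a 2-element outside `C.H0` is conjugate to one over the coded Sylow subgroup -/
theorem outer_form [Finite G] (hcent : Cent C) {g : G}
    (hg : g ∈ Cen z) (hg1 : g ∉ C.H0) {e : ℕ} (he : g ^ 2 ^ e ∈ C.J) :
    ∃ k ∈ Cen z, ∃ s ∈ sigL C.m, ∃ t ∈ sylL, Acts C (k * g * k⁻¹) (oM C.m s t) := by
  haveI : Fact (Nat.Prime 2) := ⟨Nat.prime_two⟩
  obtain ⟨s, hs, w, hw, hag⟩ := outer_word C hm hcent hg hg1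
  have hrev : ∀ x ∈ w.reverse, x ∈ ptsL := fun x hx => hw x (List.mem_reverse.1 hx)
  obtain ⟨l, hl, -, hal⟩ := exists_lift C hrev
  set d := g * l with hd
  have hdc : d ∈ Cen z := mul_mem hg (C.H0_le hl)
  have hd1 : d ∉ C.H0 := fun h => hg1 (by simpa [hd] using mul_mem h (inv_mem hl))
  have had : Acts C d (oM C.m s []) :=
    acts_join C (acts_mul C (C.H0_le hl) hag hal) fun y hy u hu => by
      rw [wM_join hm _ hy hu, oM_join hm s w (six_lt _ hy) hu, oM_join hm s [] hy hu, o6, o6,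
        (Fi22Recog95.Mod.wM_rev hw hy).1]
      rfl
  have hdd : d * d ∈ C.J := (inv2_congr C hdc had).2 fun n hn => by
    obtain ⟨h1, h2, h3, -⟩ := joinC_split n hn
    obtain ⟨hb, hb'⟩ := sigL_ok C.m hm s hs _ h2
    conv_lhs => rw [← h3, oM_join hm s [] h1 h2, oM_join hm s [] ((add6_o6 []).1 _ h1) hb, hb']
    rw [show o6 [] (o6 [] (n &&& 63)) = n &&& 63 from (rAct_facts _ h1).2.1, h3]
  set T1 : Subgroup G := (sylP.comap C.φ).map C.H0.subtype with hT1
  have hT1le : T1 ≤ C.H0 := Subgroup.map_subtype_le _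
  have hmem1 : ∀ {x : G} (hx : x ∈ C.H0), x ∈ T1 ↔ C.φ ⟨x, hx⟩ ∈ sylP := fun {x} hx => by
    rw [hT1]
    exact Subgroup.mem_map_iff_mem (x := ⟨x, hx⟩) C.H0.subtype_injective
  have hJT1 : C.J ≤ T1 := fun j hj =>
    (hmem1 (C.J_le hj)).2 (by rw [(C.φ_ker _).2 hj]; exact one_mem _)
  have hT1card : Nat.card T1 = 2 ^ 15 := by
    have h := (sylP.comap C.φ).card_mul_index
    have h' := sylP.card_mul_index
    rw [Subgroup.index_comap_of_surjective _ C.φ_surj, C.card_H0] at h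
    rw [card_sylP, card_SU4] at h'
    have hidx : sylP.index = 405 := by omega
    rw [hidx] at h
    rw [hT1, Subgroup.card_map_of_injective C.H0.subtype_injective]
    omega
  have hconj : ∀ x ∈ T1, d * x * d⁻¹ ∈ T1 := by
    intro x hx
    obtain ⟨v, hv, ev⟩ := sylP_mem ((hmem1 (hT1le hx)).1 hx)
    obtain ⟨i, hi, rfl⟩ := List.mem_iff_getElem.1 hv
    have hi64 : i < 64 := sylL_nodup_ok.2 ▸ hi
    have hok := List.all_eq_true.1 sixOuterTab_ok i (List.mem_range.2 hi64)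
    simp only [Bool.and_eq_true, decide_eq_true_eq, List.all_eq_true, List.mem_range, beq_iff_eq,
      List.getD_eq_getElem _ _ hi] at hok
    have hlt : outTab.getD i 0 < sylL.length := sylL_nodup_ok.2 ▸ hok.1
    set v' := sylL.getD (outTab.getD i 0) [] with hv'
    have hv'm : v' ∈ sylL := by rw [hv', List.getD_eq_getElem _ _ hlt]; exact List.getElem_mem _
    obtain ⟨x', hx', ex', hax'⟩ := exists_lift C (sylL_pts hv'm)
    have hax := acts_word C (hT1le hx) (sylL_pts hv) ev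
    have hy : d * x * d⁻¹ ∈ C.H0 := C.H0_conj d hdc x (hT1le hx)
    obtain ⟨f, -, -, hf⟩ := exists_acts C hy
    have h1 : d * x * d⁻¹ * x'⁻¹ ∈ C.J := by
      refine same_mem C hy hx' hf hax' fun n hn => ?_
      have h2 := acts_mul C hdc hf had
      rw [inv_mul_cancel_right] at h2
      have h3 : ∀ n < 256, oM C.m s [] n < 256 := fun n hn => acts_lt C hdc had hn
      have h4 := acts_unique C h2 (acts_mul C (C.H0_le (hT1le hx)) had hax) (oM C.m s [] n) (h3 n hn)
      rw [(inv2_congr C hdc had).1 hdd n hn] at h4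
      rw [h4]
      obtain ⟨g1, g2, g3, -⟩ := joinC_split n hn
      obtain ⟨hb, hb'⟩ := sigL_ok C.m hm s hs _ g2
      have g4 := (add6_o6 []).1 _ g1
      rw [← g3, oM_join hm s [] g1 g2, wM_join hm _ g4 hb, oM_join hm s [] (six_lt _ g4) hb, hb',
        wM_join hm _ g1 g2]
      congr 1
      exact ext6 (add6_comp (add6_o6 []) (add6_comp (add6_wM _) (add6_o6 []))) (add6_wM _)
        (fun j hj => hok.2 j hj) g1
    have h2 : x' ∈ T1 := (hmem1 hx').2 (by rw [ex']; exact sylP_lower v' hv'm)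
    simpa using mul_mem (hJT1 h1) h2
  have hnorm : Subgroup.zpowers d ≤ Subgroup.normalizer (T1 : Set G) := by
    rw [Subgroup.zpowers_le, Subgroup.mem_normalizer_iff]
    intro x
    refine ⟨hconj x, fun h => ?_⟩
    have h2 := hconj _ h
    rw [show x = (d * d)⁻¹ * (d * (d * x * d⁻¹) * d⁻¹) * (d * d) by group]
    exact mul_mem (mul_mem (inv_mem (hJT1 hdd)) h2) (hJT1 hdd)
  have hpd : IsPGroup 2 (Subgroup.zpowers d) := by
    have h1 : d ^ 2 ^ 10 = 1 := by
      have := congrArg Subtype.val (pow_card_eq_one' (x := (⟨d * d, hdd⟩ : ↥C.J)))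
      rw [C.card_J, SubmonoidClass.coe_pow] at this
      rw [show (2 : ℕ) ^ 10 = 2 * 512 from rfl, pow_mul, pow_two]
      exact this
    obtain ⟨i, -, hi⟩ := (Nat.dvd_prime_pow Nat.prime_two).1 (orderOf_dvd_of_pow_eq_one h1)
    exact IsPGroup.of_card (n := i) (by rw [Nat.card_zpowers, hi])
  set T2 : Subgroup G := T1 ⊔ Subgroup.zpowers d with hT2
  have hT2p : IsPGroup 2 T2 := (IsPGroup.of_card hT1card).to_sup_of_normal_left' hpd hnorm
  have hT2le : T2 ≤ Cen z := sup_le (fun x hx => C.H0_le (hT1le hx)) (Subgroup.zpowers_le.2 hdc)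
  have hdT2 : d ∈ T2 := Subgroup.mem_sup_right (Subgroup.mem_zpowers d)
  obtain ⟨n2, hn2⟩ := IsPGroup.iff_card.1 hT2p
  have hcz : Nat.card (Cen z) = 2 ^ 16 * 405 := by
    have h1 : Nat.card (Cen z) ≤ 2 * Nat.card C.H0 :=
      Fi22Recog95.card_le_two_mul fun u hu hu' v hv hv' => mul_mem_H0 C hu hv hu' hv'
    have h2 : 2 * Nat.card C.H0 ≤ Nat.card (Cen z) :=
      Fi22Recog95.two_mul_card_le (fun x hx => C.H0_le hx) fun h => hg1 (h hg)
    have h3 := C.card_H0
    omega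
  have hn17 : n2 = 16 := by
    have hge : 2 * Nat.card T1 ≤ Nat.card T2 :=
      Fi22Recog95.two_mul_card_le le_sup_left fun h => hd1 (hT1le (h hdT2))
    rw [hT1card, hn2] at hge
    have h17 : 16 ≤ n2 := by
      by_contra hlt
      have : 2 ^ n2 ≤ 2 ^ 15 := Nat.pow_le_pow_right (by norm_num) (by omega)
      omega
    have hdvd : 2 ^ n2 ∣ 2 ^ 16 * 405 := by rw [← hn2, ← hcz]; exact Subgroup.card_dvd_of_le hT2le
    have h' : 2 ^ n2 ∣ 2 ^ 16 :=
      (Nat.Coprime.pow_left n2 (by norm_num : Nat.Coprime 2 405)).dvd_of_dvd_mul_right hdvd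
    have := Nat.pow_dvd_pow_iff_le_right (show 1 < 2 by norm_num) |>.1 h'
    omega
  have hidx : ¬ 2 ∣ (T2.subgroupOf (Cen z)).index := by
    have h := (T2.subgroupOf (Cen z)).card_mul_index
    rw [Nat.card_congr (Subgroup.subgroupOfEquivOfLe hT2le).toEquiv, hn2, hn17, hcz] at h
    have : (T2.subgroupOf (Cen z)).index = 405 := Nat.eq_of_mul_eq_mul_left (by norm_num) h
    rw [this]; norm_num
  set P : Sylow 2 ↥(Cen z) := (hT2p.of_equiv (Subgroup.subgroupOfEquivOfLe hT2le).symm).toSylow hidx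
  have hgp : IsPGroup 2 (Subgroup.zpowers (⟨g, hg⟩ : ↥(Cen z))) := by
    have h1 : g ^ 2 ^ (e + 9) = 1 := by
      have := congrArg Subtype.val (pow_card_eq_one' (x := (⟨g ^ 2 ^ e, he⟩ : ↥C.J)))
      rw [C.card_J, SubmonoidClass.coe_pow] at this
      rw [pow_add, pow_mul]
      exact this
    obtain ⟨i, -, hi⟩ := (Nat.dvd_prime_pow Nat.prime_two).1 (orderOf_dvd_of_pow_eq_one
      (show (⟨g, hg⟩ : ↥(Cen z)) ^ 2 ^ (e + 9) = 1 from Subtype.ext h1))
    exact IsPGroup.of_card (n := i) (by rw [Nat.card_zpowers, hi])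
  obtain ⟨Q, hQ⟩ := hgp.exists_le_sylow
  obtain ⟨B, hB⟩ := MulAction.exists_smul_eq ↥(Cen z) Q P
  have hBg : (B : G) * g * (B : G)⁻¹ ∈ T2 := by
    have h : B * ⟨g, hg⟩ * B⁻¹ ∈ (P : Subgroup ↥(Cen z)) := by
      rw [← hB, Sylow.coe_subgroup_smul]
      simpa using Subgroup.smul_mem_pointwise_smul (a := MulAut.conj B) _ (Q : Subgroup ↥(Cen z))
        (hQ (Subgroup.mem_zpowers _))
    exact h
  have hB' : (B : G) ∈ Cen z := by
    by_cases h : (B : G) ∈ C.H0
    · exact C.H0_le h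
    · have := mul_mem_H0 C (inv_mem hdc) B.2 (fun h' => hd1 (by simpa using inv_mem h')) h
      simpa using mul_mem hdc (C.H0_le this)
  refine ⟨B, hB', s, hs, ?_⟩
  have hout : (B : G) * g * (B : G)⁻¹ ∉ C.H0 := fun h => hg1 (by
    have := C.H0_conj (B : G)⁻¹ (inv_mem B.2) _ h
    simpa [mul_assoc] using this)
  set t := d⁻¹ * ((B : G) * g * (B : G)⁻¹) with ht
  have htH : t ∈ C.H0 := mul_mem_H0 C (inv_mem hdc) (mul_mem (mul_mem B.2 hg) (inv_mem B.2))
    (fun h' => hd1 (by simpa using inv_mem h')) hout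
  have htT : t ∈ T1 := by
    have hle : T1 ≤ T2 ⊓ C.H0 := le_inf le_sup_left hT1le
    have hp : IsPGroup 2 ↥(T2 ⊓ C.H0) := hT2p.to_le inf_le_left
    obtain ⟨i, hi⟩ := IsPGroup.iff_card.1 hp
    have hd' : 2 ^ i ∣ 2 ^ 15 * 405 := by
      rw [← hi, show 2 ^ 15 * 405 = 13271040 by norm_num, ← C.card_H0]
      exact Subgroup.card_dvd_of_le inf_le_right
    have h' : 2 ^ i ∣ 2 ^ 15 :=
      (Nat.Coprime.pow_left i (by norm_num : Nat.Coprime 2 405)).dvd_of_dvd_mul_right hd'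
    have he' : T1 = T2 ⊓ C.H0 := Subgroup.eq_of_le_of_card_ge hle (by
      rw [hi, hT1card]; exact Nat.le_of_dvd (by norm_num) h')
    rw [he']
    exact Subgroup.mem_inf.2 ⟨T2.mul_mem (T2.inv_mem hdT2) hBg, htH⟩
  obtain ⟨v, hv, ev⟩ := sylP_mem ((hmem1 htH).1 htT)
  refine ⟨v, hv, ?_⟩
  have h1 := acts_mul C (C.H0_le htH) had (acts_word C htH (sylL_pts hv) ev)
  rw [ht, mul_inv_cancel_left] at h1
  refine acts_join C h1 fun y hy u hu => ?_
  rw [wM_join hm v hy hu, oM_join hm s [] (six_lt v hy) hu, oM_join hm s v hy hu]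
  rfl

omit hm in
theorem o6_zero (w : List Nat) : o6 w 0 = 0 := by
  rw [o6, wM_zero]; rfl

/-- the elements outside `H0` permute the plane alike -/
theorem sig_common [Finite G] {g g' : G} (hg : g ∈ Cen z) (hg1 : g ∉ C.H0) (hg' : g' ∈ Cen z)
    (hg1' : g' ∉ C.H0) {s s' : List Nat} (hs : s ∈ sigL C.m) (hs' : s' ∈ sigL C.m) {w w' : List Nat}
    (ha : Acts C g (oM C.m s w)) (ha' : Acts C g' (oM C.m s' w')) :
    ∀ u < 4, s.getD u 0 = s'.getD u 0 := by
  intro u hu
  obtain ⟨v, hv, -, hav⟩ := exists_acts C (mul_mem_H0 C hg hg' hg1 hg1')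
  have h := acts_unique C (acts_mul C hg' ha ha') hav _ (joinC_ok 0 (by norm_num) u hu).1
  obtain ⟨hb, hb'⟩ := sigL_ok C.m hm s' hs' u hu
  rw [oM_join hm _ _ (by norm_num) hu, o6_zero, oM_join hm _ _ (by norm_num) hb, o6_zero,
    wM_join hm v (by norm_num) hu, wM_zero] at h
  have e := (joinC_inj (by norm_num) (by norm_num) (sigL_ok C.m hm s hs _ hb).1 hu h).2
  have := (sigL_ok C.m hm s hs _ hb).2
  rwa [e] at this

omit hm in
theorem root_ok : (List.range 2).all (fun m => (sigL m).all fun s =>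
    (List.range 4).any fun u => qU m u && s.getD u 0 == u) = true := by decide +kernel

/-- a square root of `z` in `J` whose code is fixed by the whole centraliser -/
theorem exists_root [Finite G] (hcent : Cent C) :
    ∃ d ∈ C.J, ∃ u < 4, C.π d = joinC 0 u ∧ qU C.m u = true ∧ d * d = z ∧
      ∀ h ∈ Cen z, C.π (h * d * h⁻¹) = C.π d := by
  obtain ⟨u, hu, hqu, hfix⟩ : ∃ u < 4, qU C.m u = true ∧ ∀ h ∈ Cen z, h ∉ C.H0 →
      ∀ s ∈ sigL C.m, ∀ w, Acts C h (oM C.m s w) → s.getD u 0 = u := by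
    by_cases hall : ∀ h ∈ Cen z, h ∈ C.H0
    · refine ⟨3, by norm_num, ?_, fun h hh hh1 => absurd (hall h hh) hh1⟩
      rcases (show C.m = 0 ∨ C.m = 1 by omega) with e | e <;> rw [e] <;> decide +kernel
    · push Not at hall
      obtain ⟨g, hg, hg1⟩ := hall
      obtain ⟨s, hs, w, -, ha⟩ := outer_word C hm hcent hg hg1
      have h := List.all_eq_true.1 (List.all_eq_true.1 root_ok C.m (List.mem_range.2 hm)) s hs
      simp only [List.any_eq_true, List.mem_range, Bool.and_eq_true, beq_iff_eq] at h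
      obtain ⟨u, hu, hq, hsu⟩ := h
      exact ⟨u, hu, hq, fun h hh hh1 s' hs' w' ha' =>
        (sig_common C hm hh hh1 hg hg1 hs' hs ha' ha u hu).trans hsu⟩
  have hn := (joinC_ok 0 (by norm_num) u hu).1
  obtain ⟨d, hd, hπd⟩ := C.π_surj _ hn
  refine ⟨d, hd, u, hu, hπd, hqu, ?_, fun h hh => ?_⟩
  · rw [C.sq d hd, hπd, (joinC_qB C.m hm 0 (by norm_num) u hu).2.2, hqu, if_pos rfl]
  · by_cases hh1 : h ∈ C.H0
    · obtain ⟨v, hv, -, hav⟩ := exists_acts C hh1
      rw [hav d hd, hπd, wM_join hm v (by norm_num) hu, wM_zero]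
    · obtain ⟨s, hs, w, -, ha⟩ := outer_word C hm hcent hh hh1
      rw [ha d hd, hπd, oM_join hm s w (by norm_num) hu, o6_zero, hfix h hh hh1 s hs w ha]

end Cfsg.Agent.Lib.U62Outer7
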